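import Cfsg.Agent.Lib.W2.Main
import Cfsg.Agent.Lib.Transfer.Extremal

/-!
Groups with a 2-central involution `t` such that `C(t) = ⟨t⟩ × F`, `F` simple.
-/

namespace Cfsg.Lib.TwoF

open Subgroup Cfsg.Lib.BG Cfsg.Lib.GW Cfsg.Lib.JR Cfsg.Lib.Transfer Cfsg.Lib.W2
open scoped Cfsg.Lib.Transfer MatrixGroups

universe u

/-- `e` is a product of squares of elements commuting with it. -/
def SqP {F : Type*} [Group F] (e : F) : Prop :=
  ∀ N : Subgroup F, (∀ x, x * e = e * x → x * x ∈ N) → e ∈ N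

/-- The involutions centralizing some 2-subgroup are products of squares in their centralizers. -/
def KP (F : Type*) [Group F] : Prop :=
  ∃ P : Subgroup F, IsPGroup 2 P ∧ ∀ e : F, e * e = 1 → (∀ s ∈ P, s * e = e * s) → SqP e

section
variable {F F' : Type*} [Group F] [Group F']

theorem SqP.map {e : F} (h : SqP e) (f : F →* F') : SqP (f e) := fun N hN =>
  h (N.comap f) fun x hx => by
    rw [mem_comap, map_mul]
    exact hN _ (by rw [← map_mul, hx, map_mul])

theorem KP.of_surj (f : F →* F') (hf : Function.Surjective f) {P : Subgroup F} (hP : IsPGroup 2 P)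
    (h : ∀ g, f (g * g) = 1 → (∀ s ∈ P, f (s * g) = f (g * s)) → ∃ g', f g' = f g ∧ SqP g') :
    KP F' := by
  refine ⟨P.map f, hP.map f, fun e he hc => ?_⟩
  obtain ⟨g, rfl⟩ := hf e
  obtain ⟨g', h1, h2⟩ := h g (by rwa [map_mul]) fun s hs => by
    rw [map_mul, map_mul]; exact hc _ ⟨s, hs, rfl⟩
  exact h1 ▸ h2.map f

theorem KP.of_equiv (h : KP F) (e : F ≃* F') : KP F' :=
  let ⟨_, hP, h⟩ := h
  KP.of_surj e.toMonoidHom e.surjective hP fun g h1 h2 => ⟨g, rfl, h g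
    (e.injective (h1.trans (map_one e).symm)) fun s hs => e.injective (h2 s hs)⟩

theorem SqP.one : SqP (1 : F) := fun N _ => one_mem N

theorem SqP.sq (x : F) : SqP (x * x) := fun _ hN => hN x (mul_assoc _ _ _).symm

theorem SqP.conj {e : F} (h : SqP e) (g : F) : SqP (g * e * g⁻¹) :=
  h.map (MulAut.conj g).toMonoidHom

/-- A group with one class of involutions. -/
theorem ab2_or_kp [Finite F] (h : ∀ a b : F, orderOf a = 2 → orderOf b = 2 → IsConj a b) :
    Ab2 F ∨ KP F := by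
  have := Fact.mk Nat.prime_two
  by_cases c : ∃ x : F, orderOf (x * x) = 2
  · obtain ⟨x, hx⟩ := c
    refine .inr ⟨⊥, IsPGroup.of_bot, fun e he _ => ?_⟩
    rcases eq_or_ne e 1 with rfl | e1
    · exact SqP.one
    obtain ⟨g, rfl⟩ := isConj_iff.1 (h _ _ hx (orderOf_eq_prime (by rwa [sq]) e1))
    exact (SqP.sq x).conj g
  refine .inl fun P hP a ha b hb => ?_
  have key : ∀ x ∈ P, x⁻¹ = x := fun x hx => by
    obtain ⟨k, hk⟩ := hP ⟨x, hx⟩
    have hk' : x ^ 2 ^ k = 1 := congrArg Subtype.val hk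
    clear hk hx
    refine inv_eq_of_mul_eq_one_right ?_
    induction k generalizing x with
    | zero => simp_all
    | succ k ih =>
      by_contra c1
      exact c ⟨x, orderOf_eq_prime ((sq _).trans (ih _ (by rwa [← sq, ← pow_mul, ← pow_succ']))) c1⟩
  rw [← key _ (mul_mem ha hb), mul_inv_rev, key a ha, key b hb]

end

variable {G : Type u} [Group G] {t : G} {F : Subgroup G}

structure Hyp (t : G) (F : Subgroup G) : Prop where
  ord : orderOf t = 2
  idx : ¬ 2 ∣ (𝐂[t]).index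
  dp : DP (zpowers t) F 𝐂[t]
  simple : IsSimpleGroup F
  nab : ¬ IsMulCommutative F
  no : ∀ H : Subgroup G, H.index = 2 → t ∈ H

namespace Hyp
variable (h : Hyp t F)
include h

theorem tt : t * t = 1 := sq_of_ord h.ord

theorem not_mem : t ∉ F := fun c =>
  ne_one_of_ord h.ord (mem_bot.1 (h.dp.inf.le ⟨mem_zpowers t, c⟩))

theorem mem {x : G} (hx : x ∈ 𝐂[t]) : x ∈ F ∨ t * x ∈ F := by
  obtain ⟨a, ha, b, hb, rfl⟩ := h.dp.mem hx
  rcases (Inv.mem_zpowers_iff_of_mul_self h.tt).1 ha with rfl | rfl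
  · exact .inl (by rwa [one_mul])
  · exact .inr (by rwa [← mul_assoc, h.tt, one_mul])

theorem sq_mem {x : G} (hx : x ∈ 𝐂[t]) : x * x ∈ F := by
  rcases h.mem hx with c | c
  · exact mul_mem c c
  · have := mul_mem c c
    rwa [mul_assoc, ← mul_assoc x, mem_cent1.1 hx, ← mul_assoc, ← mul_assoc, h.tt, one_mul] at this

theorem nml {K : Subgroup G} (hK : F ≤ 𝐍(K)) : K ⊓ F = ⊥ ∨ F ≤ K := by
  have := h.simple
  have h1 : Nml (K ⊓ F) F := ⟨inf_le_right, norm_inf hK (le_norm F)⟩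
  rcases h1.normal.eq_bot_or_eq_top with c | c
  · exact .inl (by rwa [subgroupOf_eq_bot, disjoint_iff, inf_assoc, inf_idem] at c)
  · exact .inr ((subgroupOf_eq_top.1 c).trans inf_le_left)

theorem center {x : G} (hx : x ∈ F) (hc : x ∈ 𝐂(F)) : x = 1 :=
  mem_bot.1 (((h.nml (norm_cent (le_norm F))).resolve_right fun c => h.nab (abelian_iff.2 c)).le
    ⟨hc, hx⟩)

theorem perf : F ≤ ⁅F, F⁆ :=
  (h.nml (norm_der (le_norm F))).resolve_left fun c => h.nab (abelian_iff_der.2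
    (by rwa [inf_eq_left.2 (der_le F)] at c))

variable [Finite G]

theorem fuse {P : Subgroup G} (hP : IsPGroup 2 P) (hPF : P ≤ F) :
    ∃ g, g * t * g⁻¹ ∈ F ∧ P ≤ 𝐂[g * t * g⁻¹] := by
  have := Fact.mk Nat.prime_two
  obtain ⟨S, hS, hle⟩ := Syl.exists_ge (pgroup_sup hP (Inv.isPGroup_zpowers_of_mul_self h.tt)
    (norm_of_cent (cent_mono h.dp.cent le_rfl hPF)))
    (sup_le (hPF.trans h.dp.right_le) h.dp.left_le)
  have hS' : Syl 2 S ⊤ := hS.trans_idx le_top (PiNat.p'_iff.2 (by rw [relIndex_top_right]; exact h.idx))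
  obtain ⟨S, rfl⟩ := Syl.top_iff_sylow.1 hS'
  have tS : t ∈ (S : Subgroup G) := hle (mem_sup_right (mem_zpowers t))
  have hn : (F.subgroupOf (S : Subgroup G)).Normal := by
    rw [← inf_subgroupOf_right]
    exact (h.dp.nml_right.inf_right hS.le).normal
  have hi : (F.subgroupOf (S : Subgroup G)).index = 2 := index_eq_two_iff.2 ⟨⟨t, tS⟩, fun b => by
    simp only [mem_subgroupOf, coe_mul, mem_cent1.1 (hS.le b.2)]
    rcases h.mem (hS.le b.2) with c | c
    · exact .inr ⟨c, fun c' => h.not_mem ((mul_mem_cancel_right c).1 c')⟩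
    · exact .inl ⟨c, fun c' => h.not_mem ((mul_mem_cancel_right c').1 c)⟩⟩
  have ht : t ∈ pResidual 2 G ⊔ _root_.commutator G := by
    by_contra c
    refine c (h.no _ (index_eq_two_iff.2 ⟨t, fun b => ?_⟩))
    have hF : F ≤ pResidual 2 G ⊔ _root_.commutator G :=
      h.perf.trans (le_sup_of_le_right (commutator_mono le_top le_top))
    obtain ⟨r, hr, s, hs, rfl⟩ := (mem_sup_left_norm le_normalizer_of_normal).1
      ((pResidual_sup_sylow S).ge (mem_top b))
    have hr' := (le_sup_left : _ ≤ pResidual 2 G ⊔ _root_.commutator G) hr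
    rw [mul_assoc, mul_mem_cancel_left hr', mul_mem_cancel_left hr', mem_cent1.1 (hS.le hs)]
    rcases h.mem (hS.le hs) with c' | c'
    · exact .inr ⟨hF c', fun c'' => c ((mul_mem_cancel_right (hF c')).1 c'')⟩
    · exact .inl ⟨hF c', fun c'' => c ((mul_mem_cancel_right c'').1 (hF c'))⟩
  obtain ⟨g, h1, -, h2⟩ := exists_conj_mem_and_conj_le S (T := F)
    (isCyclic_of_prime_card (p := 2) hi) h.tt ht S.isPGroup' hS.le
  refine ⟨g, h1, ?_⟩
  rw [← conj_cent1]
  exact (le_sup_left.trans hle).trans ((conj_eq_of_norm (mem_normalizer_of_conj_le h2)).ge.trans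
    (conj_mono g hS.le))

theorem not_kp : ¬ KP F := by
  rintro ⟨P, hP, hK⟩
  obtain ⟨g, h1, h2⟩ := h.fuse (hP.map F.subtype) (map_subtype_le P)
  have := hK ⟨_, h1⟩ (Subtype.ext (by
    change g * t * g⁻¹ * (g * t * g⁻¹) = 1
    rw [conj_mul, h.tt, mul_one, mul_inv_cancel])) (fun s hs => Subtype.ext (mem_cent1.1 (h2 ⟨s, hs, rfl⟩)))
    ((g ⋆ F).subgroupOf F) fun x hx => by
      have h3 : (x : G) ∈ g ⋆ 𝐂[t] := conj_cent1 g t ▸ mem_cent1.2 (congrArg Subtype.val hx)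
      have := h.sq_mem (mem_conj.1 h3)
      rw [mem_subgroupOf, mem_conj]
      simpa [mul_assoc] using this
  exact h.not_mem (conj_mem_conj.1 (mem_subgroupOf.1 this))

theorem cent_le {N : Subgroup G} [hN : N.Normal] (h1 : N ≠ ⊥) : 𝐂[t] ≤ N := by
  obtain ⟨g, hu, -⟩ := h.fuse IsPGroup.of_bot bot_le
  have u1 : g * t * g⁻¹ ≠ 1 := fun c => ne_one_of_ord h.ord (conj_eq_one_iff.1 c)
  have h2 := h.nml (K := N) le_normalizer_of_normal
  have h3 : F ≤ N → 𝐂[t] ≤ N := fun c => h.dp.sup.ge.trans (sup_le (zpowers_le.2 (by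
    simpa [mul_assoc] using hN.conj_mem _ (c hu) g⁻¹)) c)
  refine h3 (h2.resolve_left fun h4 => h1 ?_)
  have tN : t ∉ N := fun c => u1 (mem_bot.1 (h4.le ⟨hN.conj_mem _ c g, hu⟩))
  have h5 : ∀ x ∈ N, x ∈ 𝐂[t] → x = 1 := fun x hx hc => by
    rcases h.mem hc with c | c
    · exact mem_bot.1 (h4.le ⟨hx, c⟩)
    refine absurd ?_ tN
    have := h.center c (mem_cent.2 fun f hf => by
      have h6 := mem_bot.1 (h4.le (⟨?_, F.mul_mem (F.mul_mem (F.mul_mem hf c) (F.inv_mem hf)) (F.inv_mem c)⟩ :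
        f * (t * x) * f⁻¹ * (t * x)⁻¹ ∈ N ⊓ F))
      · rwa [mul_inv_eq_one, mul_inv_eq_iff_eq_mul] at h6
      rw [← mul_assoc f, ← le_cent_iff.1 h.dp.cent t (mem_zpowers t) f hf]
      simpa [mul_assoc] using hN.conj_mem _ (mul_mem (hN.conj_mem _ hx f) (inv_mem hx)) t)
    exact (mul_eq_one_iff_eq_inv.1 this) ▸ inv_mem hx
  have ti : t⁻¹ = t := inv_eq_of_mul_eq_one_right h.tt
  have h6 : ∀ x ∈ N, t * x * t⁻¹ = x⁻¹ := fun x hx => congrArg Subtype.val (congrFun
    (MonoidHom.FixedPointFree.coe_eq_inv_of_involutive (φ := MulAut.conjNormal (H := N) t)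
      (fun y hy => Subtype.ext (h5 y y.2 (mem_cent1.2 (mul_inv_eq_iff_eq_mul.1
        (congrArg Subtype.val hy)).symm))) fun y => Subtype.ext (by
      simp only [MulAut.conjNormal_apply]
      rw [show t * (t * y * t⁻¹) * t⁻¹ = t * t * y * (t * t)⁻¹ by group, h.tt]; simp)) ⟨x, hx⟩)
  have h7 : ∀ a, ∀ x ∈ N, a * t * a⁻¹ * x * (a * t * a⁻¹)⁻¹ = x⁻¹ := fun a x hx => by
    have := h6 _ (hN.conj_mem _ hx a⁻¹)
    calc _ = a * (t * (a⁻¹ * x * a⁻¹⁻¹) * t⁻¹) * a⁻¹ := by group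
      _ = _ := by rw [this]; group
  rcases h.nml (K := 𝐂(N)) le_normalizer_of_normal with c | c
  · refine absurd (h.center hu (mem_cent.2 fun f hf => ?_)) u1
    have := mem_bot.1 (c.le (⟨mem_cent.2 fun x hx => ?_, F.mul_mem (F.inv_mem hu)
      (F.mul_mem (F.mul_mem hf hu) (F.inv_mem hf))⟩ :
        (g * t * g⁻¹)⁻¹ * (f * (g * t * g⁻¹) * f⁻¹) ∈ 𝐂(N) ⊓ F))
    · rwa [inv_mul_eq_one, eq_comm, mul_inv_eq_iff_eq_mul] at this
    have e1 := h7 g x hx
    have e2 := h7 (f * g) x hx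
    rw [show f * g * t * (f * g)⁻¹ = f * (g * t * g⁻¹) * f⁻¹ by group] at e2
    generalize g * t * g⁻¹ = a at *
    generalize f * a * f⁻¹ = b at *
    calc _ = a⁻¹ * (a * x * a⁻¹) * b := by group
      _ = _ := by rw [e1, ← e2]; group
  · refine (eq_bot_iff_forall _).2 fun x hx => h5 x hx (mem_cent1.2 ?_)
    have := mem_cent.1 (c hu) _ (hN.conj_mem _ hx g)
    calc _ = g⁻¹ * (g * x * g⁻¹ * (g * t * g⁻¹)) * g := by group
      _ = _ := by rw [this]; group

end Hyp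

theorem Hyp.exists_simple (n : ℕ) : ∀ {G : Type u} [Group G] [Finite G] {t : G} {F : Subgroup G},
    Nat.card G = n → Hyp t F → ∃ (M : Type u) (_ : Group M) (_ : Finite M) (_ : IsSimpleGroup M)
      (s : M) (E : Subgroup M), Hyp s E ∧ Nonempty (F ≃* E) := by
  induction n using Nat.strong_induction_on with
  | _ n ih =>
  intro G _ _ t F hn h
  by_cases c : IsSimpleGroup G
  · exact ⟨G, _, inferInstance, c, t, F, h, ⟨.refl _⟩⟩
  have : Nontrivial G := ⟨t, 1, ne_one_of_ord h.ord⟩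
  obtain ⟨N, hN, h1, h2⟩ : ∃ N : Subgroup G, N.Normal ∧ N ≠ ⊥ ∧ N ≠ ⊤ := by
    by_contra c'
    exact c ⟨fun N hN => by by_contra c''; push Not at c''; exact c' ⟨N, hN, c''⟩⟩
  have h3 := h.cent_le h1
  have tN := h3 (self_mem_cent1 t)
  have FN := h.dp.right_le.trans h3
  have e := subgroupOfEquivOfLe FN
  have hc : 𝐂[(⟨t, tN⟩ : N)] = (𝐂[t]).subgroupOf N := by
    ext x; simp [mem_subgroupOf, mem_cent1, Subtype.ext_iff]
  have hz : zpowers (⟨t, tN⟩ : N) = (zpowers t).subgroupOf N := by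
    ext x; simp [mem_subgroupOf, mem_zpowers_iff, Subtype.ext_iff]
  obtain ⟨M, _, _, _, s, E, hE, ⟨i⟩⟩ := ih _ (by
      rw [← hn]
      exact (card_le_card_group N).lt_of_ne fun c => h2 (eq_top_of_card_eq N c)) rfl
    (show Hyp (⟨t, tN⟩ : N) (F.subgroupOf N) from ⟨(orderOf_mk _ _).trans h.ord, fun c' => h.idx
      (c'.trans (hc ▸ relIndex_dvd_index_of_le h3)), ⟨fun a ha b hb => Subtype.ext
        (h.dp.cent (hz.le ha) _ hb), by
        rw [hz, subgroupOf, subgroupOf, ← comap_inf, h.dp.inf]; exact bot_subgroupOf N, by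
        rw [hz, hc, ← subgroupOf_sup (zpowers_le.2 tN) FN, h.dp.sup]⟩,
      have := h.simple; e.isSimpleGroup, fun c' => h.nab ⟨⟨fun a b => e.symm.injective (by
        rw [map_mul, map_mul, c'.is_comm.comm])⟩⟩, fun H hH => by
      have : H.Normal := normal_of_index_eq_two hH
      have h4 := h.cent_le (N := ⁅N, N⁆) (fun c' => h.nab (abelian_iff_der.2
        (eq_bot_mono c' (der_mono FN)))) (self_mem_cent1 t)
      rw [← map_subtype_commutator] at h4
      obtain ⟨y, hy, rfl⟩ := h4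
      have := isCyclic_of_prime_card (p := 2) (hp := ⟨Nat.prime_two⟩) hH
      exact (Normal.quotient_commutative_iff_commutator_le.1 inferInstance) hy⟩)
  exact ⟨M, _, ‹_›, ‹_›, s, E, hE, ⟨e.symm.trans i⟩⟩

end Cfsg.Lib.TwoF
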