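import Cfsg.Agent.Lib.KI.CoverDef
import Cfsg.Agent.Lib.Chev.ClassCount
import Cfsg.Agent.Lib.Chev.Invol
import Cfsg.Agent.Lib.TwoF.Base

/-!
Involutions of a split torus are conjugate to squares.
-/

namespace Cfsg.Lib.TwoF

open Finset Cfsg.Lib.Chev Cfsg.Lib.Chev.RootSys Cfsg.Lib.Chev.ChevSys Cfsg.Lib.Chev.PreSys
  Cfsg.Lib.Alg Cfsg.Lib.Twisted Cfsg.Lib.KI

variable {n : ℕ}

/-- The vector of signs with a given mask. -/
def sgv (n : ℕ) (F : Type*) [Field F] (a : ℕ) : Fin n → Fˣ :=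
  fun i => if a.testBit i then -1 else 1

/-- The exponent of a simple root on a vector of signs. -/
def parA (A : Fin n → Fin n → ℤ) (a : ℕ) (i : Fin n) : ℤ := ∑ j, if a.testBit j.val then A j i else 0

/-- The masks of central elements and of evident squares. -/
def GoodM (A : Fin n → Fin n → ℤ) (π : Fin n → Fin n) (lac : Bool) (a : ℕ) : Prop :=
  (∀ j, Even (parA A a j)) ∨ (∃ i, π i = i ∧ a = 2 ^ i.val) ∨ (lac ∧ ∃ i j, A i j = 0 ∧
    (π i = i ∧ π j = j ∨ π i = j ∧ π j = i) ∧ a = 2 ^ i.val ^^^ 2 ^ j.val)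

instance decGoodM (A : Fin n → Fin n → ℤ) (π : Fin n → Fin n) (lac : Bool) (a : ℕ) :
    Decidable (GoodM A π lac a) := by unfold GoodM; infer_instance

/-- A descent to good masks. -/
def Desc (A : Fin n → Fin n → ℤ) (π : Fin n → Fin n) (lac : Bool) (T : ℕ) : Prop :=
  ∀ a < 2 ^ n, (∃ i, Odd (parA A a i) ∧ t8 T (a ^^^ 2 ^ i.val) < t8 T a) ∨ GoodM A π lac a

instance decDesc (A : Fin n → Fin n → ℤ) (π : Fin n → Fin n) (lac : Bool) (T : ℕ) :
    Decidable (Desc A π lac T) := by unfold Desc; infer_instance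

variable {Φ κ : Type} {R : RootSys (Fin n) Φ} {F : Type*} [Field F] {G : Type*} [Group G]
  {π : Fin n → Fin n} {lac : Bool} {T : ℕ}

theorem sgv_xor (a b : ℕ) : sgv n F (a ^^^ b) = sgv n F a * sgv n F b := funext fun i => by
  simp only [sgv, Nat.testBit_xor, Pi.mul_apply]
  cases a.testBit i <;> cases b.testBit i <;> simp

theorem sgv_pow (i : Fin n) : sgv n F (2 ^ i.val) = Pi.mulSingle i (-1) := funext fun j => by
  simp [sgv, Nat.testBit_two_pow, Pi.mulSingle_apply, Fin.val_inj, eq_comm]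

theorem chr_sgv (a : ℕ) (i : Fin n) : R.chr (sgv n F a) (R.simple i) = (-1) ^ parA R.A a i := by
  rw [RootSys.chr_simple, parA, ← prod_zpow_eq]
  refine prod_congr rfl fun j _ => ?_
  rw [sgv]
  split_ifs <;> simp

theorem exists_sgv {c : Fin n → Fˣ} (h : c * c = 1) : ∃ a < 2 ^ n, c = sgv n F a := by
  classical
  refine ⟨_, Nat.ofBits_lt_two_pow fun j => decide (c j = -1), funext fun j => ?_⟩
  simp only [sgv, Nat.testBit_ofBits_lt _ _ j.2, decide_eq_true_eq]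
  split_ifs with h2
  exacts [h2, Units.ext ((mul_self_eq_one_iff.1 (congrArg Units.val (congrFun h j))).resolve_right
    fun e => h2 (Units.ext e))]

theorem Desc.exists (h : Desc R.A π lac T) {a : ℕ} (ha : a < 2 ^ n) :
    ∃ w ∈ R.W, ∃ b, GoodM R.A π lac b ∧ mAct (R.wM w) (sgv n F a) = sgv n F b := by
  induction e : t8 T a using Nat.strong_induction_on generalizing a with | _ m ih => ?_
  rcases h a ha with ⟨i, h1, h2⟩ | h1
  · obtain ⟨w, hw, b, hb, h3⟩ := ih _ (e ▸ h2) (Nat.xor_lt_two_pow ha (Nat.pow_lt_pow_right one_lt_two i.2)) rfl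
    refine ⟨w * R.sref i, mul_mem hw (sref_mem_W _ _), b, hb, ?_⟩
    rw [(isAut_of_mem_W hw).wM_mul, mAct_mul, ← h3, ← refl_simple, mAct_refl, chr_sgv, h1.neg_one_zpow,
      sgv_xor, sgv_pow, co_simple]
    congr 1
    funext j
    rcases eq_or_ne j i with rfl | c
    · simp [div_eq_mul_inv]
    · simp [c]
  · exact ⟨1, one_mem _, a, h1, by rw [wM_one, mAct_one]⟩

variable {C : ChevSys R F G}

theorem n_sq (hM : C.HMul) (r : Φ) : C.n r 1 * C.n r 1 = C.h r (-1) := by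
  rw [n_mul_self, ← hM.h_inv, inv_neg_one]

theorem comm_XS (hR : ∀ r, R.ln r = 1) {r s : Φ} (h : R.pair r s = 0) {a b : G}
    (ha : a ∈ C.XS {r, R.neg r}) (hb : b ∈ C.XS {s, R.neg s}) : a * b = b * a := by
  refine Subgroup.mem_centralizer_singleton_iff.1 ((XS_le.2 fun r' hr t => ?_ :
    _ ≤ Subgroup.centralizer {b}) ha)
  refine Subgroup.mem_centralizer_singleton_iff.2 (Subgroup.mem_centralizer_singleton_iff.1
    ((XS_le.2 fun s' hs u => ?_ : _ ≤ Subgroup.centralizer {C.x r' t}) hb)).symm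
  refine Subgroup.mem_centralizer_singleton_iff.2 (C.commute_laced hR ?_ _ _).symm.eq
  rcases hr with rfl | rfl <;> rcases hs with rfl | rfl <;> simp [h]

theorem n_mem_XS (r : Φ) (t : Fˣ) : C.n r t ∈ C.XS {r, R.neg r} :=
  C.n_mem (C.x_mem (by simp)) (C.x_mem (by simp)) t

theorem GoodM.sq {a : ℕ} (h : GoodM R.A π lac a) (hl : lac → ∀ r, R.ln r = 1) (hM : C.HMul)
    {σ : G →* G} (hσ : ∀ i, σ (C.n (R.simple i) 1) = C.n (R.simple (π i)) 1) :
    sgv n F a ∈ R.kerChr F ∨ ∃ v, σ v = v ∧ v * v = hM.torus (sgv n F a) := by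
  rcases h with h | ⟨i, h1, rfl⟩ | ⟨h0, i, j, h1, h2, rfl⟩
  · exact .inl (mem_kerChr.2 fun j => by rw [← RootSys.chr_simple, chr_sgv, (h j).neg_one_zpow])
  · exact .inr ⟨_, by rw [hσ, h1], by rw [n_sq hM, sgv_pow, hM.torus_mulSingle]⟩
  have c : Commute (C.n (R.simple i) 1) (C.n (R.simple j) 1) :=
    comm_XS (hl h0) ((pair_simple_simple _ _ _).trans h1) (n_mem_XS _ _) (n_mem_XS _ _)
  refine .inr ⟨C.n (R.simple i) 1 * C.n (R.simple j) 1, ?_, ?_⟩
  · rcases h2 with h2 | h2 <;> rw [map_mul, hσ, hσ, h2.1, h2.2]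
    exact c.eq.symm
  · rw [c.symm.mul_mul_mul_comm, n_sq hM, n_sq hM, sgv_xor, map_mul, sgv_pow, sgv_pow,
      hM.torus_mulSingle, hM.torus_mulSingle]

variable [Fintype Φ]

theorem kp_cover {Y0 : Sym R κ} {p : ℕ} [Fact p.Prime] {m : Fin n → ℕ} {Y : Type*} [Group Y]
    (D : AlgCover Y0 p m Y) (h2 : p ≠ 2) {d : ℕ} (hd : Odd d)
    (hZ : ∀ c ∈ R.kerChr D.k, c ∈ D.S.TFix → c ^ d = 1) (hl : lac → ∀ r, R.ln r = 1)
    (hD : Desc R.A Y0.π lac T) : KP Y := by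
  have h := D.alg
  have hc := h.hMul.center_eq h.faithful h.top
  refine KP.of_surj D.π D.surj (P := ⊥) IsPGroup.of_bot fun g hg _ => ?_
  obtain ⟨z, hz, e⟩ := hc.le ((D.ker _).1 hg)
  have h1 : ((g ^ d : fix D.σ) : D.G) * (g ^ d : fix D.σ) = 1 := by
    have : D.S.σ (h.hMul.torus z) = h.hMul.torus z := by rw [e, ← D.σ_eq]; exact (g * g).2
    rw [h.hMul.tw_torus, h.inj.eq_iff] at this
    rw [Subgroup.coe_pow, ← (Commute.refl _).mul_pow, ← Subgroup.coe_mul, ← e, ← map_pow, hZ z hz this,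
      map_one]
  have h3 : D.π (g ^ d) = D.π g := by
    obtain ⟨k, rfl⟩ := hd
    rw [pow_succ, pow_mul, sq, map_mul, map_pow, hg, one_pow, one_mul]
  rw [← h3]
  generalize g ^ d = x at h1
  have h4 := h.cj_of_coprime (s := (x : D.G)) (Nat.Coprime.coprime_dvd_left
    (orderOf_dvd_of_pow_eq_one ((sq _).trans h1))
    ((Nat.coprime_primes Nat.prime_two Fact.out).2 h2.symm))
  obtain ⟨a, c, e⟩ := id h4
  obtain ⟨b, hb, rfl⟩ := exists_sgv (c := c) (h.inj (by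
    rw [e, conj_mul, conj_eq_one_iff] at h1; rw [map_mul, h1, map_one]))
  obtain ⟨w, hw, b', hb', e'⟩ := hD.exists (F := D.k) hb
  obtain ⟨u, hu⟩ := D.C.exists_nw_of_mem_W hw
  have h5 : IsConj (h.tor (sgv n D.k b')) x := isConj_iff.2 ⟨a * u⁻¹, by
    rw [e, ← e', ← h.hMul.nw_conj_torus hu]; group⟩
  rcases hb'.sq hl h.hMul D.S.σ_n_one with c | ⟨v, h6, h7⟩
  · have c' := hc.ge ⟨_, c, rfl⟩
    refine ⟨1, (map_one _).trans ((D.ker _).2 ?_).symm, SqP.one⟩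
    obtain ⟨y, hy⟩ := isConj_iff.1 h5
    rwa [← hy, Subgroup.mem_center_iff.1 c' y, mul_inv_cancel_right]
  · obtain ⟨y, hy⟩ := isConj_iff.1 (h.isConj_fix D.st
      (y := ⟨v, (D.σ_eq v).trans h6⟩ * ⟨v, (D.σ_eq v).trans h6⟩) h4 (by
        rw [Subgroup.coe_mul, h7]; exact h5.symm)).symm
    exact ⟨x, rfl, hy ▸ (SqP.sq _).conj y⟩

end Cfsg.Lib.TwoF
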