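import Cfsg.Agent.Lib.TwoF.Base
import Cfsg.Agent.Lib.Unitary.Center

/-!
Signed permutation matrices; the linear and unitary groups.
-/

namespace Cfsg.Lib.TwoF

open Matrix Finset Subgroup
open scoped Cfsg.Lib.Transfer

variable {ι K : Type*} [Fintype ι] [DecidableEq ι] [Field K] {I A : Finset ι}

variable (K) in
/-- The sign function of a finite set. -/
def sg (A : Finset ι) (a : ι) : K := if a ∈ A then -1 else 1

omit [Fintype ι] in
theorem sg_sq (a : ι) : sg K A a * sg K A a = 1 := by unfold sg; split_ifs <;> simp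

omit [Fintype ι] in
theorem sg_ne (a : ι) : sg K A a ≠ 0 := left_ne_zero_of_mul_eq_one (sg_sq a)

theorem prod_sg : ∏ a, sg K A a = (-1) ^ #A := by
  simp [sg]

omit [Fintype ι] in
theorem exists_sep (hI : ∀ a ∉ I, ∀ b ∉ I, a = b) (h3 : 3 ≤ #I) {a b : ι} (h : a ≠ b) :
    ∃ i ∈ I, ∃ j ∈ I, i ≠ j ∧ sg K {i, j} a = -sg K {i, j} b := by
  wlog ha : a ∈ I generalizing a b
  · obtain ⟨i, hi, j, hj, h1, h2⟩ := this h.symm (by_contra fun c => h (hI a ha b c))
    exact ⟨i, hi, j, hj, h1, by rw [h2, neg_neg]⟩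
  obtain ⟨c, hc, h1⟩ := exists_mem_notMem_of_card_lt_card (s := {a, b}) (t := I)
    (card_le_two.trans_lt h3)
  simp only [Finset.mem_insert, Finset.mem_singleton, not_or] at h1
  exact ⟨a, ha, c, hc, Ne.symm h1.1, by simp [sg, h.symm, Ne.symm h1.2]⟩

theorem diag_of_comm (h2 : (2 : K) ≠ 0) (hI : ∀ a ∉ I, ∀ b ∉ I, a = b) (h3 : 3 ≤ #I)
    (hn : 5 ≤ Fintype.card ι ∨ Odd (Fintype.card ι)) {g : Matrix ι ι K} (hg : g.det ≠ 0)
    (h : ∀ i ∈ I, ∀ j ∈ I, i ≠ j →
      ∃ l : K, g * diagonal (sg K {i, j}) = l • (diagonal (sg K {i, j}) * g)) :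
    ∃ a, g = diagonal a := by
  have n1 : ∀ x : K, x = -x → x = 0 := fun x hx =>
    (mul_eq_zero.1 (show 2 * x = 0 by linear_combination hx)).resolve_left h2
  have ent : ∀ {d : ι → K} {l : K}, g * diagonal d = l • (diagonal d * g) → ∀ a b, g a b ≠ 0 →
      d b = l * d a := fun e a b h0 => mul_left_cancel₀ h0 (by
    have := congrFun (congrFun e a) b
    simp only [mul_diagonal, Matrix.smul_apply, diagonal_mul, smul_eq_mul] at this
    rw [this]; ring)
  choose π hπ using fun a => show ∃ b, g a b ≠ 0 from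
    not_forall.1 fun c => hg (det_eq_zero_of_row_eq_zero a c)
  have inj : Function.Injective π := fun a a' e => by_contra fun c => by
    obtain ⟨i, hi, j, hj, h1, h4⟩ := exists_sep (K := K) hI h3 c
    obtain ⟨l, hl⟩ := h i hi j hj h1
    have e1 := ent hl a _ (hπ a)
    have e2 := ent hl a' _ (hπ a')
    rw [← e] at e2
    exact sg_ne _ (n1 _ (by linear_combination e1 + e2 + l * h4) : sg K {i, j} (π a) = 0)
  have one : ∀ i j, i ≠ j → ∀ l : K,
      g * diagonal (sg K {i, j}) = l • (diagonal (sg K {i, j}) * g) → l = 1 := fun i j hij l hl => by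
    by_contra c
    rcases hn with hn | hn
    · have := card_le_card_of_injOn (s := ({i, j} : Finset ι)ᶜ) (t := {i, j}) π (fun a ha => by
        have e := ent hl a _ (hπ a)
        rw [Finset.mem_coe, Finset.mem_compl] at ha
        by_contra c'
        rw [Finset.mem_coe] at c'
        rw [sg, sg, if_neg ha, if_neg c', mul_one] at e
        exact c e.symm) inj.injOn
      rw [card_compl, card_pair hij] at this
      omega
    · have e := congrArg det hl
      rw [det_smul, det_mul, det_mul, mul_comm, eq_comm, mul_eq_right₀ (mul_ne_zero (by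
        rw [det_diagonal]; exact prod_ne_zero_iff.2 fun a _ => sg_ne a) hg)] at e
      have e1 := ent hl i _ (hπ i)
      have e2 : l * l = 1 := by
        have := sg_sq (K := K) (A := {i, j}) (π i)
        rw [e1] at this
        linear_combination this - l * l * sg_sq (K := K) (A := {i, j}) i
      rw [(mul_self_eq_one_iff.1 e2).resolve_left c, hn.neg_one_pow] at e
      exact one_ne_zero (n1 1 e.symm)
  refine ⟨fun a => g a a, Matrix.ext fun a b => ?_⟩
  rcases eq_or_ne a b with rfl | c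
  · simp
  rw [diagonal_apply_ne _ c]
  by_contra c'
  obtain ⟨i, hi, j, hj, h1, h4⟩ := exists_sep (K := K) hI h3 c
  obtain ⟨l, hl⟩ := h i hi j hj h1
  have := ent hl a b c'
  rw [one i j h1 l hl, one_mul, h4] at this
  exact sg_ne _ (n1 _ this)

variable {Γ : Type*} [Group Γ] {ρ : Γ →* Matrix ι ι K}

theorem det_ne (g : Γ) : (ρ g).det ≠ 0 :=
  left_ne_zero_of_mul_eq_one (b := (ρ g⁻¹).det) (by rw [← det_mul, ← map_mul]; simp)

theorem comm_of_mk' {p : K → Prop} (hc : ∀ g ∈ center Γ, ∃ c : K, p c ∧ ρ g = c • 1) {s g : Γ}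
    (h : QuotientGroup.mk' (center Γ) (s * g) = QuotientGroup.mk' _ (g * s)) :
    ∃ l : K, p l ∧ ρ g * ρ s = l • (ρ s * ρ g) := by
  obtain ⟨l, h0, hl⟩ := hc _ (QuotientGroup.eq.1 h)
  exact ⟨l, h0, by rw [← map_mul, ← map_mul, ← mul_inv_cancel_left (s * g) (g * s), map_mul, hl]; simp⟩

theorem comm_of_mk (hc : ∀ g ∈ center Γ, ∃ c : K, ρ g = c • 1) {s g : Γ}
    (h : QuotientGroup.mk' (center Γ) (s * g) = QuotientGroup.mk' _ (g * s)) :
    ∃ l : K, ρ g * ρ s = l • (ρ s * ρ g) :=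
  (comm_of_mk' (p := fun _ => True) (fun g hg => (hc g hg).imp fun _ h => ⟨trivial, h⟩) h).imp
    fun _ h => h.2

theorem mk_eq (hi : Function.Injective ρ) {s g : Γ} {c : K} (h : ρ g = c • ρ s) :
    QuotientGroup.mk' (center Γ) s = QuotientGroup.mk' _ g :=
  QuotientGroup.eq.2 (Subgroup.mem_center_iff.2 fun x => hi (by
    have : ρ (s⁻¹ * g) = c • 1 := by rw [map_mul, h, mul_smul_comm, ← map_mul]; simp
    rw [map_mul, map_mul _ _ x, this]; simp))

theorem sqP_of_pairs (hi : Function.Injective ρ) {s : Γ} (hs : ρ s = diagonal (sg K A))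
    (he : Even #A) (h : ∀ i ∈ A, ∀ j ∈ A, i ≠ j →
      ∃ x, x * s = s * x ∧ ρ (x * x) = diagonal (sg K {i, j})) : SqP s := fun N hN => by
  obtain ⟨k, hk⟩ := he
  suffices ∀ k, ∀ B ⊆ A, #B = k + k → ∀ y, ρ y = diagonal (sg K B) → y ∈ N from
    this k A le_rfl hk s hs
  intro k
  induction k with
  | zero =>
    intro B _ h0 y hy
    rw [card_eq_zero.1 h0] at hy
    rw [hi (hy.trans (by rw [map_one, ← diagonal_one]; congr 1) : _ = ρ 1)]
    exact one_mem N
  | succ k ih =>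
    intro B hB h0 y hy
    obtain ⟨i, hi', j, hj, hij⟩ := one_lt_card.1 (show 1 < #B by omega)
    obtain ⟨x, h1, h2⟩ := h i (hB hi') j (hB hj) hij
    refine (mul_mem_cancel_left (hN x h1)).1 (ih (B \ {i, j}) (sdiff_subset.trans hB) (by
      rw [card_sdiff_of_subset (by simp [insert_subset_iff, hi', hj]), card_pair hij]; omega) _ ?_)
    rw [map_mul, h2, hy, diagonal_mul_diagonal]
    congr 1
    ext a
    by_cases c : a = i ∨ a = j
    · rcases c with rfl | rfl <;> simp [sg, hi', hj]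
    · simp [sg, c]

/-- A signed permutation matrix. -/
def sp (s : ι → K) (σ : Equiv.Perm ι) : Matrix ι ι K := of fun a b => if a = σ b then s b else 0

theorem sp_mul (s s' : ι → K) (σ σ' : Equiv.Perm ι) :
    sp s σ * sp s' σ' = sp (fun b => s (σ' b) * s' b) (σ * σ') := by
  ext a b
  simp [sp, mul_apply]
  rfl

omit [Fintype ι] in
theorem sp_one (s : ι → K) : sp s 1 = diagonal s := by
  ext a b
  rcases eq_or_ne a b with rfl | h <;> simp [sp, *]

theorem det_sp (s : ι → K) (σ : Equiv.Perm ι) : (sp s σ).det = Equiv.Perm.sign σ * ∏ a, s a := by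
  rw [← det_diagonal, ← Equiv.Perm.sign_inv, ← det_permute]
  congr 1
  ext a b
  simp only [sp, of_apply, submatrix_apply, id, diagonal_apply, Equiv.Perm.inv_eq_iff_eq]
  split_ifs with h
  exacts [by simp [h], rfl]

variable (ρ) in
/-- The signed permutation matrices along an involution `τ`. -/
def spSub (hi : Function.Injective ρ) (τ : Equiv.Perm ι) (hτ : ∀ a, τ (τ a) = a) :
    {P : Subgroup Γ // IsPGroup 2 P ∧ ∀ g s σ, (∀ a, s a * s a = 1) → (∀ a, σ a = a ∨ σ a = τ a) →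
      ρ g = sp s σ → g ∈ P} := by
  let M : Submonoid Γ :=
    { carrier := {g | ∃ s σ, (∀ a, s a * s a = 1) ∧ (∀ a, σ a = a ∨ σ a = τ a) ∧ ρ g = sp s σ}
      one_mem' := ⟨1, 1, by simp, by simp, by rw [sp_one, map_one]; rfl⟩
      mul_mem' := by
        rintro _ _ ⟨s, σ, h1, h2, h3⟩ ⟨s', σ', h1', h2', h3'⟩
        refine ⟨_, _, fun a => ?_, fun a => ?_, by rw [map_mul, h3, h3', sp_mul]⟩
        · rw [mul_mul_mul_comm, h1, h1', one_mul]
        · rw [Equiv.Perm.mul_apply]
          rcases h2' a with c | c <;> rw [c]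
          · exact h2 a
          · exact (h2 _).symm.imp (·.trans (hτ a)) id }
  have h4 : ∀ g ∈ M, g ^ 2 ^ 2 = 1 := by
    rintro g ⟨s, σ, h1, h2, h3⟩
    have : σ * σ = 1 := Equiv.ext fun a => by
      rw [Equiv.Perm.mul_apply, Equiv.Perm.one_apply]
      rcases h2 a with c | c
      · rw [c, c]
      · rcases h2 (σ a) with c' | c'
        · rw [c', σ.injective c']
        · rw [c', c, hτ]
    refine hi ?_
    rw [sq, pow_mul, sq, sq, map_mul, map_mul, h3, sp_mul, this, sp_one, diagonal_mul_diagonal, map_one,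
      ← diagonal_one]
    congr 1
    ext a
    rw [mul_mul_mul_comm, h1, h1, one_mul]
  exact ⟨⟨M, fun {g} hg => (show g⁻¹ = g ^ 3 from inv_eq_of_mul_eq_one_right
      (by rw [← pow_succ']; exact h4 g hg)) ▸ M.pow_mem hg 3⟩,
    fun g => ⟨2, Subtype.ext (h4 g.1 g.2)⟩, fun g s σ h1 h2 h3 => ⟨s, σ, h1, h2, h3⟩⟩

theorem kp_mono (h2 : (2 : K) ≠ 0) {n : ℕ} (h3 : 3 ≤ n) (h4 : n ≠ 4) {ρ : Γ →* Matrix (Fin n) (Fin n) K}
    (hi : Function.Injective ρ) (hc : ∀ g ∈ center Γ, ∃ c : K, ρ g = c • 1)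
    (hs : ∀ s σ, (∀ a, s a * s a = 1) → (sp s σ).det = 1 → ∃ g, ρ g = sp s σ) :
    KP (Γ ⧸ center Γ) := by
  classical
  obtain ⟨P, hP, hm⟩ := spSub ρ hi Fin.revPerm Fin.rev_rev
  have dg : ∀ A : Finset (Fin n), Even #A → ∃ g, ρ g = diagonal (sg K A) := fun A hA => by
    rw [← sp_one]
    exact hs _ _ sg_sq (by rw [sp_one, det_diagonal, prod_sg, hA.neg_one_pow])
  have J : ∀ i j : Fin n, i ≠ j → ∃ g, ρ g = sp (sg K {j}) (Equiv.swap i j) := fun i j h =>
    hs _ _ sg_sq (by rw [det_sp, prod_sg]; simp [h])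
  refine KP.of_surj _ (QuotientGroup.mk'_surjective _) hP fun g g2 hg => ?_
  obtain ⟨a, ha⟩ := diag_of_comm h2 (I := univ) (by simp) (by simpa) (by
    rw [Fintype.card_fin, Nat.odd_iff]; omega) (det_ne (ρ := ρ) g) fun i _ j _ hij => by
    obtain ⟨d, hd⟩ := dg {i, j} (by rw [card_pair hij]; decide)
    exact hd ▸ comm_of_mk hc (hg d (hm d _ 1 sg_sq (by simp) (hd.trans (sp_one _).symm)))
  have a0 : ∀ i, a i ≠ 0 := fun i => prod_ne_zero_iff.1
    (by rw [← det_diagonal, ← ha]; exact det_ne g) i (mem_univ i)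
  obtain ⟨c, hc2⟩ := hc _ ((QuotientGroup.eq_one_iff _).1 g2)
  have a2 : ∀ i, a i * a i = c := fun i => by
    have := congrFun (congrFun hc2 i) i
    simpa [ha] using this
  have rv : ∀ i, a i.rev = a i := fun i => by
    rcases eq_or_ne i i.rev with c | c
    · rw [← c]
    obtain ⟨x, hx⟩ := J i i.rev c
    obtain ⟨l, hl⟩ := comm_of_mk hc (hg x (hm x _ _ sg_sq (fun b => by
      rw [Equiv.swap_apply_def]; split_ifs with h1 h2 <;> simp [*]) hx))
    obtain ⟨k, -, hk⟩ := exists_mem_notMem_of_card_lt_card (s := {i, i.rev}) (t := univ)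
      (card_le_two.trans_lt (by simpa))
    simp only [Finset.mem_insert, Finset.mem_singleton, not_or] at hk
    have e1 := congrFun (congrFun hl k) k
    have e2 := congrFun (congrFun hl i.rev) i
    simp [ha, hx, sp, sg, Equiv.swap_apply_of_ne_of_ne hk.1 hk.2, hk.2, a0, c] at e1 e2
    rw [e2, e1, one_mul]
  let m : Fin n := ⟨n / 2, by omega⟩
  have ea : diagonal a = a m • diagonal (sg K {i | a i ≠ a m}) := by
    rw [← diagonal_smul]
    congr 1
    ext i
    by_cases c : a i = a m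
    · simp [sg, c]
    · rw [Pi.smul_apply, sg, if_pos (by simpa), smul_eq_mul, mul_neg_one]
      exact (mul_self_eq_mul_self_iff.1 ((a2 i).trans (a2 m).symm)).resolve_left c
  have ev : Even #{i | a i ≠ a m} := by
    rw [← ZMod.natCast_eq_zero_iff_even, card_eq_sum_ones, Nat.cast_sum]
    refine sum_involution (fun i _ => i.rev) (fun _ _ => by decide) (fun i hi _ c => ?_)
      (fun i hi => by simpa [rv] using hi) fun i _ => i.rev_rev
    have : i = m := Fin.ext (by have := congrArg Fin.val c; simp [m] at this ⊢; omega)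
    simp [this] at hi
  obtain ⟨s, hs'⟩ := dg _ ev
  refine ⟨s, mk_eq hi (by rw [ha, ea, hs']), sqP_of_pairs hi hs' ev fun i h1 j h1' hij => ?_⟩
  obtain ⟨x, hx⟩ := J i j hij
  refine ⟨x, hi ?_, ?_⟩
  · rw [map_mul, map_mul, hx, hs', ← sp_one, sp_mul, sp_mul, mul_one, one_mul]
    congr 1
    ext b
    rw [mul_comm, Equiv.Perm.one_apply, Equiv.swap_apply_def]
    split_ifs with c1 c2
    · simp only [c1, sg, if_pos h1, if_pos h1']
    · simp only [c2, sg, if_pos h1, if_pos h1']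
    · rfl
  · rw [map_mul, hx, sp_mul, Equiv.swap_mul_self, sp_one]
    congr 1
    ext b
    rw [Equiv.swap_apply_def]
    split_ifs with c1 c2 <;> simp [sg, *, hij.symm]

theorem kp_psl (h2 : (2 : K) ≠ 0) {n : ℕ} (h3 : 3 ≤ n) (h4 : n ≠ 4) :
    KP (ProjectiveSpecialLinearGroup (Fin n) K) :=
  kp_mono h2 h3 h4 (ρ := SpecialLinearGroup.coeMonoidHom) Subtype.val_injective (fun g hg =>
    let ⟨r, _, h⟩ := Matrix.SpecialLinearGroup.mem_center_iff.1 hg
    ⟨r, h.symm.trans (by rw [scalar_apply, smul_one_eq_diagonal])⟩)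
    fun _ _ _ h => ⟨⟨_, h⟩, rfl⟩

theorem kp_psu [Fintype K] (h2 : (2 : K) ≠ 0) {n q : ℕ} (hq : Fintype.card K = q ^ 2) (h3 : 3 ≤ n)
    (h4 : n ≠ 4) : KP (PSU n K q) := by
  obtain ⟨σ, hσ⟩ := Unitary.exists_isBar hq
  refine kp_mono h2 h3 h4 (ρ := SpecialLinearGroup.coeMonoidHom.comp (SU n K q).subtype)
    (Subtype.val_injective.comp Subtype.val_injective)
    (fun g hg => (Unitary.mem_center_SU hq (by omega)).1 hg)
    fun s τ h1 h => ⟨⟨⟨_, h⟩, hσ.mem_SU_iff.2 ?_⟩, rfl⟩
  ext a b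
  simp only [mul_apply, transpose_apply, map_apply, sp, of_apply, mul_ite, mul_zero, sum_ite_eq',
    mem_univ, if_true, EmbeddingLike.apply_eq_iff_eq, one_apply]
  rcases eq_or_ne a b with rfl | c
  · rcases mul_self_eq_one_iff.1 (h1 a) with e | e <;> simp [e]
  · simp [c, c.symm]

end Cfsg.Lib.TwoF
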