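import Cfsg.Agent.Lib.TwoF.Frame
import Cfsg.Agent.Lib.TwoF.Mono
import Cfsg.Agent.Lib.KI.CoverEx
import Cfsg.Agent.Lib.Orth.Klein

/-!
The property `KP` for the exceptional groups of odd characteristic and in dimension four.
-/

namespace Cfsg.Lib.TwoF

open Cfsg.Lie Cfsg.Lib.Chev Cfsg.Lib.Chev.RootSys Cfsg.Lib.Twisted Cfsg.Lib.KI Cfsg.Lib.St
  Cfsg.Lib.Orth

variable {p : ℕ} [Fact p.Prime] {F : Type} [Field F] [Fintype F] [CharP F p] (h2 : p ≠ 2)

theorem pow_three_E6 {k : Type*} [Field k] {c : Fin 6 → kˣ} (hc : c ∈ checkedE6.R.kerChr k) :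
    c ^ 3 = 1 := funext fun i => by
  rw [Pi.pow_apply, (kerDataE6 checkedE6).eq_prod hc i, ← Finset.prod_pow]
  exact Finset.prod_eq_one fun a _ => by
    rw [← zpow_natCast, ← zpow_mul, mul_comm, zpow_mul, zpow_natCast,
      (kerDataE6 checkedE6).pow_eq_one hc, one_zpow]

theorem desc_G2 : Desc (toM 2 2 cartanG2) id false 0x1000000 := by decide +kernel

theorem desc_F4 : Desc (toM 4 4 cartanF4) id false 0x3020601040305000201070001000000 := by
  decide +kernel

theorem desc_D4 : Desc (toM 4 4 cartanD4) πD4 false 0x3020400020100020201000201000200 := by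
  decide +kernel

theorem desc_E6 : Desc (toM 6 6 cartanE6) πE6 true 0x50404030303020206050201070701030304020309050a0407060102080600040403030204020301050401000608020203020201050104000708030206000400 := by
  decide +kernel

theorem desc_E6' : Desc (toM 6 6 cartanE6) id true 0x50404030303020206050201070101010302020109010a0007060100080000000403030202020101050401000600000003020201010100000100010000000000 := by
  decide +kernel

theorem desc_E7 : Desc (toM 7 7 cartanE7) id true 0x6050504040403030706030208020202040303020a020b010807020109010101040303020c020d0105040f1006000e00030202010b010c00090801000a000000050404030303020206050201070101010302020109010a0007060100080000000403030202020101050401000600000003020201010100000100010000000000 := by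
  decide +kernel

theorem desc_E8 : Desc (toM 8 8 cartanE8) id true 0x7060605050504040807040309030303050404030b030c02090803020a020202050404030d030e0206051011071b0f01040303020c020d010a0902010b010101050404030f03100206051213071911011516141509170a160706131408181200040303020e020f0105041112061a1000030202010d010e000b0a01000c00000006050504040403030706030208020202040303020a020b010807020109010101040303020c020d0105040f10061c0e00030202010b010c00090801000a000000050404030303020206050201070101010302020109010a0007060100080000000403030202020101050401000600000003020201010100000100010000000000 := by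
  decide +kernel

set_option maxRecDepth 100000

theorem laced_E6 : ∀ r, checkedE6.R.ln r = 1 := by decide +kernel

theorem laced_E7 : ∀ r, checkedE7.R.ln r = 1 := by decide +kernel

theorem laced_E8 : ∀ r, checkedE8.R.ln r = 1 := by decide +kernel

/-- Seven orthogonal roots. -/
def frameE7 : Fin 7 → Fin chevE7.nroots := fun b => ⟨[63, 66, 73, 78, 87, 92, 125].getD b 0, by
  revert b; decide +kernel⟩

include h2

theorem kp_checked {D : ChevalleyDatum} {c : Cert} (h : Checked D c) (hD : D ∈ types)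
    (halg : (∀ t : AlgebraicClosure F, ∃ n, 0 < n ∧ t ^ p ^ n = t) →
      ∃ φ, (h.stSys (AlgebraicClosure F) hD).Alg h.T p φ)
    (hZ : ∀ (k : Type) [Field k], ∀ c ∈ h.R.kerChr k, c ^ 3 = 1) {lac : Bool}
    (hl : lac → ∀ r, h.R.ln r = 1) {A : List (List ℤ)} (hA : IsCartan h.R A) {T : ℕ}
    (hT : Desc (toM D.rank D.rank A) id lac T) : KP (D.group F) := by
  obtain ⟨m, hm, hF⟩ := exists_card_eq_pow (F := F) p
  obtain ⟨E⟩ := cover_checked h hD halg hm hF (MulEquiv.refl _)
  exact kp_cover E h2 (d := 3) (by decide) (fun c hc _ => hZ _ c hc) hl (hA.A_eq ▸ hT)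

theorem kp_G2 : KP (chevG2.group F) := kp_checked h2 checkedG2 (by simp) (algG2 _ p)
  (fun k _ c hc => by rw [(kerDataG2 _).kerChr_eq_bot.le hc, one_pow]) (by simp) (isCartanG2 _) desc_G2

theorem kp_F4 : KP (chevF4.group F) := kp_checked h2 checkedF4 (by simp) (algF4 _ p)
  (fun k _ c hc => by rw [(kerDataF4 _).kerChr_eq_bot.le hc, one_pow]) (by simp) (isCartanF4 _) desc_F4

theorem kp_E6 : KP (chevE6.group F) := kp_checked h2 checkedE6 (by simp) (algE6 _ p)
  (fun _ _ _ => pow_three_E6) (fun _ => laced_E6) (isCartanE6 _) desc_E6'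

theorem kp_E8 : KP (chevE8.group F) := kp_checked h2 checkedE8 (by simp) (algE8 _ p)
  (fun k _ c hc => by rw [(kerDataE8 _).kerChr_eq_bot.le hc, one_pow]) (fun _ => laced_E8)
  (isCartanE8 _) desc_E8

omit [Fintype F] in
theorem two_ne : (2 : F) ≠ 0 := fun e => h2 ((Nat.prime_dvd_prime_iff_eq Fact.out Nat.prime_two).1
  ((CharP.cast_eq_zero_iff F p 2).1 e))

theorem kp_E7 : KP (chevE7.group F) :=
  kp_frame (checkedE7.gsys_faithful F) laced_E7 (by decide +kernel) (checkedE7.gsys_adjoint F)
    (checkedE7.gsys_grp F) (two_ne h2) frameE7 (by decide +kernel) (by decide +kernel)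
    (by decide +kernel) ((isCartanE7 checkedE7).A_eq ▸ desc_E7)

omit h2 [Fact p.Prime] in
theorem eq_pow_of_card {q d : ℕ} (hq : IsPrimePow q) (hF : Fintype.card F = q ^ d) :
    ∃ m, 0 < m ∧ q = p ^ m := by
  obtain ⟨r, m, hr, hm, rfl⟩ := (isPrimePow_nat_iff _).1 hq
  have := Fact.mk hr
  have : CharP F r := charP_of_card_eq_prime_pow (by rw [hF, ← pow_mul])
  exact ⟨m, hm, by rw [CharP.eq F ‹CharP F r› ‹CharP F p›]⟩

theorem kp_2E6 {q : ℕ} (hq : IsPrimePow q) (hF : Fintype.card F = q ^ 2) : KP (twistedE6 F q) := by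
  obtain ⟨m, hm, rfl⟩ := eq_pow_of_card (p := p) hq hF
  obtain ⟨E⟩ := cover_2E6 hm hF (MulEquiv.refl _)
  exact kp_cover E h2 (d := 3) (by decide) (fun c hc _ => pow_three_E6 hc) (fun _ => laced_E6)
    ((isCartanE6 checkedE6).A_eq ▸ desc_E6 : Desc checkedE6.R.A _ _ _)

theorem kp_3D4 {q : ℕ} (hq : IsPrimePow q) (hF : Fintype.card F = q ^ 3) : KP (twistedD4 F q) := by
  obtain ⟨m, hm, rfl⟩ := eq_pow_of_card (p := p) hq hF
  obtain ⟨E⟩ := cover_3D4 hm hF (MulEquiv.refl _)
  refine kp_cover E h2 (d := 1) odd_one (fun c h5 h6 => ?_) (by simp)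
    ((isCartanD4 checkedD4).A_eq ▸ desc_D4 : Desc checkedD4.R.A _ _ _)
  obtain ⟨h7, h8, h9⟩ := ker_D4 (M := Additive E.kˣ) c (mem_kerChr.1 h5)
  have h12 : ∀ i, c i ^ 2 = 1 := fun i => congrFun h7 i
  obtain ⟨a, e⟩ := ((Fact.out : p.Prime).odd_of_ne_two h2).pow (n := m)
  have h10 : ∀ i, c (πD4 i) = c i := fun i => Units.ext (by
    rw [← symD4_π, Twist.mem_TFix.1 h6, E.θ_eq, congrArg ((c i : E.k) ^ ·) e,
      ← Units.val_pow_eq_pow_val, pow_succ, pow_mul, h12, one_pow, one_mul])
  have h13 : c 0 * c 2 * c 3 = 1 := h8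
  have h14 : c 2 = c 0 := h10 0
  have h15 : c 3 = c 2 := h10 2
  rw [h15, h14, ← sq, h12, one_mul] at h13
  rw [pow_one]
  funext i
  fin_cases i
  exacts [h13, h9, h14.trans h13, h15.trans (h14.trans h13)]

theorem kp_psl' {n : ℕ} (h3 : 3 ≤ n) : KP (Matrix.ProjectiveSpecialLinearGroup (Fin n) F) := by
  rcases eq_or_ne n 4 with rfl | h4
  · obtain ⟨e⟩ := nonempty_pomega_six_plus (F := F)
    exact (kp_pomega (nd_qPlus 3) (two_ne h2) (by simp)).of_equiv e
  · exact kp_psl (two_ne h2) h3 h4

theorem kp_psu' {n q : ℕ} (hq : Fintype.card F = q ^ 2) (h3 : 3 ≤ n) : KP (PSU n F q) := by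
  rcases eq_or_ne n 4 with rfl | h4
  · obtain ⟨m, hm, rfl⟩ := eq_pow_of_card (p := p) ((isPrimePow_pow_iff two_ne_zero).1
      (hq ▸ FiniteField.isPrimePow_card F)) hq
    have := Fintype.ofFinite (GaloisField p m)
    obtain ⟨b, hb⟩ := exists_aniso_one (GaloisField p m)
    obtain ⟨e⟩ := nonempty_pomega_six_minus (K := GaloisField p m)
      (Nat.card_eq_fintype_card.symm.trans (GaloisField.card p m hm.ne')) hq hb
    exact (kp_pomega (nd_qMinus 2 hb) (two_ne h2) (by simp)).of_equiv e
  · exact kp_psu (two_ne h2) hq h3 h4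

end Cfsg.Lib.TwoF
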