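import Cfsg.Agent.Lib.TwoF.Mono
import Cfsg.Agent.Lib.Orth.Klein
import Cfsg.Agent.Lib.Orth.Diag
import Cfsg.Agent.Lib.Symp.Group

/-!
The orthogonal and symplectic groups.
-/

namespace Cfsg.Lib.TwoF

open Matrix Finset Subgroup Module QuadraticMap Cfsg.Lib.Orth
open scoped MatrixGroups

section
variable {F V ι : Type*} [Field F] [Finite F] [AddCommGroup V] [Module F V] [FiniteDimensional F V]
  {Q : QuadraticForm F V} [Fintype ι] [DecidableEq ι]

theorem kp_orth_aux (hQ : ND Q) (h2 : (2 : F) ≠ 0) (b : Basis ι F V)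
    (ho : ∀ i j, i ≠ j → polar Q (b i) (b j) = 0) {I : Finset ι} (hI : ∀ a ∉ I, ∀ c ∉ I, a = c)
    (h5 : 5 ≤ #I) (h1 : ∀ i ∈ I, Q (b i) = 1) (h0 : ∀ i ∉ I, ¬ IsSquare (Q (b i))) :
    KP (PCom (O Q)) := by
  classical
  have hE : ¬ Exc Q := not_exc_of_two_ne_zero h2
  have hn : 5 ≤ Fintype.card ι := h5.trans (card_le_univ I)
  have b0 : ∀ i, Q (b i) ≠ 0 := fun i c => by
    by_cases hi : i ∈ I
    · exact one_ne_zero ((h1 i hi).symm.trans c)
    · exact h0 i hi (c ▸ IsSquare.zero)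
  let ρ : commutator (O Q) →* Matrix ι ι F :=
    { toFun g := LinearMap.toMatrix b b (g.1.1 : V →ₗ[F] V)
      map_one' := LinearMap.toMatrix_id b
      map_mul' g h := LinearMap.toMatrix_mul b _ _ }
  have hi : Function.Injective ρ := fun g h e => Subtype.ext (Subtype.ext (LinearEquiv.toLinearMap_injective
    ((LinearMap.toMatrix b b).injective e)))
  have hρ : ∀ g d, ρ g = diagonal d ↔ ∀ i, g.1.1 (b i) = d i • b i := fun g d => by
    have e : ∀ j i, ρ g j i = b.repr (g.1.1 (b i)) j := fun j i => LinearMap.toMatrix_apply b b _ j i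
    refine ⟨fun h i => b.repr.injective (Finsupp.ext fun j => ?_), fun h => Matrix.ext fun j i => ?_⟩
    · rw [← e, h]
      rcases eq_or_ne j i with rfl | c <;> simp [*]
    · rw [e, h]
      rcases eq_or_ne j i with rfl | c <;> simp [*]
  have hc : ∀ g ∈ center (commutator (O Q)), ∃ c : F, ρ g = c • 1 := fun g hg => by
    simp only [smul_one_eq_diagonal, hρ]
    rcases (mem_center_commutator_iff hQ hE (by rw [finrank_eq_card_basis b]; omega)).1 hg with c | c
    · exact ⟨1, by simp [c]⟩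
    · exact ⟨-1, by simp [c]⟩
  have rr : ∀ i j, i ≠ j → ∀ a, (refl Q (b i) * refl Q (b j)).1 (b a) = sg F {i, j} a • b a :=
    fun i j hij a => by
      have := prod_refl_apply b0 ho (l := [i, j]) (by simpa) a
      simp only [List.map, List.prod_cons, List.prod_nil, mul_one] at this
      rw [this, sg]
      simp only [List.mem_cons, List.not_mem_nil, or_false, Finset.mem_insert, Finset.mem_singleton]
      split_ifs <;> simp
  have rm : ∀ i ∈ I, ∀ j ∈ I, refl Q (b i) * refl Q (b j) ∈ commutator (O Q) := fun i hi j hj =>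
    refl_mul_refl_mem_commutator' hQ (b0 i) (b0 j) (by rw [h1 i hi, h1 j hj])
  have q2 : ∀ i ∈ I, ∀ j ∈ I, i ≠ j → Q (b i - b j) = 2 := fun i hi j hj h => by
    rw [Q_sub, h1 i hi, h1 j hj, ho i j h]; ring
  obtain ⟨P, hP, hm⟩ := spSub ρ hi 1 fun _ => rfl
  refine KP.of_surj _ (QuotientGroup.mk'_surjective _) hP fun g _ hg => ⟨g, rfl, ?_⟩
  obtain ⟨a, ha⟩ := diag_of_comm h2 hI (by omega) (.inl hn) (det_ne (ρ := ρ) g) fun i hi j hj hij => by
    have hd := (hρ ⟨_, rm i hi j hj⟩ _).2 (rr i j hij)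
    exact hd ▸ comm_of_mk hc (hg _ (hm _ _ 1 sg_sq (by simp) (hd.trans (sp_one _).symm)))
  obtain ⟨A, hA⟩ : ∃ A : Finset ι, a = sg F A := ⟨univ.filter (a · ≠ 1), funext fun i => by
    have := O.map_Q g.1 (b i)
    rw [(hρ g a).1 ha, Q_smul, mul_eq_right₀ (b0 i), sq_eq_one_iff] at this
    by_cases c : a i = 1
    · simp [sg, c]
    · rw [sg, if_pos (by simpa)]
      exact this.resolve_left c⟩
  subst hA
  have gb := (hρ g _).1 ha
  have e : g.1 = ((A.toList.map b).map (refl Q)).prod := Subtype.ext (b.ext' fun i => by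
    rw [prod_refl_apply b0 ho A.nodup_toList, gb, sg]
    simp only [mem_toList]
    split_ifs <;> simp)
  have hl : ∀ v ∈ A.toList.map b, Q v ≠ 0 := by simp [b0]
  obtain ⟨e1, e2⟩ := (mem_commutator_iff hQ hE _).1 g.2
  rw [e, dickson_list hQ hl, List.length_map, length_toList] at e1
  rw [e, spinor_list hQ hl, List.map_map, prod_map_toList, sqsign_eq_one_iff] at e2
  have AI : A ⊆ I := fun w hw => by_contra fun c => h0 w c (by
    rwa [prod_eq_single_of_mem (f := Q ∘ b) w hw fun i _ h =>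
      h1 i (by_contra fun c' => h (hI i c' w c))] at e2)
  refine sqP_of_pairs hi ha ((neg_one_pow_eq_one_iff_even (by decide)).1 e1) fun i hi j hj hij => ?_
  obtain ⟨k, l, m, hk, hl, hm, kl, km, lm, hs⟩ : ∃ k l m, k ∈ I \ {i, j} ∧ l ∈ I \ {i, j} ∧
      m ∈ I \ {i, j} ∧ k ≠ l ∧ k ≠ m ∧ l ≠ m ∧ sg F A l = sg F A m := by
    obtain ⟨x, y, z, hx, hy, hz, xy, xz, yz⟩ := two_lt_card_iff.1 (show 2 < #(I \ {i, j}) by
      have := le_card_sdiff {i, j} I
      rw [card_pair hij] at this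
      omega)
    by_cases c1 : y ∈ A ↔ z ∈ A
    · exact ⟨x, y, z, hx, hy, hz, xy, xz, yz, by simp only [sg, c1]⟩
    by_cases c2 : x ∈ A ↔ z ∈ A
    · exact ⟨y, x, z, hy, hx, hz, xy.symm, yz, xz, by simp only [sg, c2]⟩
    · exact ⟨z, x, y, hz, hx, hy, xz.symm, yz.symm, xy, by simp only [sg, show x ∈ A ↔ y ∈ A by tauto]⟩
  simp only [Finset.mem_sdiff, Finset.mem_insert, Finset.mem_singleton, not_or] at hk hl hm
  have cm : ∀ v (c : F), c ≠ 0 → g.1.1 v = c • v → Commute (refl Q v) g.1 := fun v c h0 h =>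
    (mul_inv_eq_iff_eq_mul.1 (by rw [conj_refl, h, refl_smul h0])).symm
  have ij := q2 i (AI hi) j (AI hj) hij
  have lm' := q2 l hl.1 m hm.1 lm
  set τ := refl Q (b i - b j) * refl Q (b l - b m) with hτ
  have p1 : ∀ x y z, x ≠ z → y ≠ z → polar Q (b x - b y) (b z) = 0 := fun x y z h h' => by
    rw [polar_sub_left, ho _ _ h, ho _ _ h', sub_zero]
  have t1 : τ * refl Q (b i) * τ⁻¹ = refl Q (b j) := by
    rw [conj_refl, hτ, O.mul_apply, refl_apply_of_perp (p1 _ _ _ hl.2.1 hm.2.1),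
      refl_sub_apply ((h1 i (AI hi)).trans (h1 j (AI hj)).symm) (ij ▸ h2)]
  have t2 : τ * refl Q (b k) * τ⁻¹ = refl Q (b k) := by
    rw [conj_refl, hτ, O.mul_apply, refl_apply_of_perp (p1 _ _ _ kl.symm km.symm),
      refl_apply_of_perp (p1 _ _ _ (Ne.symm hk.2.1) (Ne.symm hk.2.2))]
  have t3 : τ * τ = 1 := by
    rw [hτ, mul_assoc, ← mul_assoc (refl Q (b l - b m)), refl_comm_of_perp (u := b l - b m) (by
      rw [polar_sub_right, p1 _ _ _ hl.2.1 hm.2.1, p1 _ _ _ hl.2.2 hm.2.2, sub_zero]), mul_assoc,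
      refl_mul_self, mul_one, refl_mul_self]
  refine ⟨⟨_, mul_mem (rm i (AI hi) k hk.1) (refl_mul_refl_mem_commutator' hQ (ij ▸ h2) (lm' ▸ h2)
    (by rw [ij, lm']))⟩, Subtype.ext (((cm _ _ (sg_ne i) (gb i)).mul_left (cm _ _ (sg_ne k) (gb k))).mul_left
      ((cm _ _ (sg_ne (A := A) i) ?_).mul_left (cm _ _ (sg_ne (A := A) l) ?_))), (hρ _ _).2 fun a => ?_⟩
  · rw [map_sub, gb, gb, smul_sub, sg, sg, if_pos hi, if_pos hj]
  · rw [map_sub, gb, gb, smul_sub, hs]
  rw [← rr i j hij]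
  congr 2
  calc _ = refl Q (b i) * (refl Q (b k) * (τ * refl Q (b i) * τ⁻¹)) * (τ * refl Q (b k) * τ⁻¹) * (τ * τ) := by
        simp only [Subgroup.coe_mul, ← hτ]; group
    _ = _ := by rw [t1, t2, t3, refl_comm_of_perp (ho k j hk.2.2), mul_one, mul_assoc, mul_assoc,
        refl_mul_self, mul_one]

theorem kp_orth (hQ : ND Q) (h2 : (2 : F) ≠ 0) (h6 : 6 ≤ finrank F V) : KP (PCom (O Q)) := by
  obtain ⟨m, hm⟩ : ∃ m, finrank F V = m + 1 := ⟨_, (Nat.sub_add_cancel (by omega)).symm⟩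
  obtain ⟨δ, d0, h1, hd⟩ : ∃ δ : F, δ ≠ 0 ∧ (δ = 1 ∨ ¬ IsSquare δ) ∧
      sqsign (2 ^ (m + 1) * δ) = disc Q := by
    obtain ⟨ν, hν⟩ := FiniteField.exists_nonsquare (F := F) fun c => h2 (ringChar_eq_two_iff.1 c)
    have n0 : ν ≠ 0 := fun c => hν (c ▸ IsSquare.zero)
    by_cases c : sqsign ((2 : F) ^ (m + 1)) = disc Q
    · exact ⟨1, one_ne_zero, .inl rfl, by rw [mul_one, c]⟩
    · exact ⟨ν, n0, .inr hν, by
        rw [sqsign_mul (pow_ne_zero _ h2) n0, sqsign_of_not_isSquare hν, Int.units_ne_iff_eq_neg.1 c]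
        simp⟩
  let w : Fin (m + 1) → F := Fin.cons δ 1
  have w0 : ∀ i, w i ≠ 0 := Fin.cases d0 fun _ => one_ne_zero
  obtain ⟨e⟩ := equivalent_of_disc_eq hQ (nd_qDiag h2 w0) h2 (by simpa) (by
    rw [disc_qDiag, ← hd, Fin.prod_univ_succ]; simp [w])
  refine KP.of_equiv ?_ (pcomCongr (O.congr (Q' := qDiag w) e.toLinearEquiv one_ne_zero
    fun v => by simp)).symm
  have hb : ∀ i, qDiag w (Pi.basisFun F _ i) = w i := fun i => by simp [qDiag_single]
  have ho : ∀ i j, i ≠ j → polar (qDiag w) (Pi.basisFun F _ i) (Pi.basisFun F _ j) = 0 :=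
    fun i j h => by simp [polar_qDiag_single, h]
  rcases h1 with rfl | h1
  · exact kp_orth_aux (nd_qDiag h2 w0) h2 _ ho (I := univ) (by simp) (by simp; omega)
      (fun i _ => (hb i).trans (by cases i using Fin.cases <;> rfl)) (by simp)
  · refine kp_orth_aux (nd_qDiag h2 w0) h2 _ ho (I := {0}ᶜ) (by simp) (by simp [card_compl]; omega)
      (fun i h => (hb i).trans ?_) fun i h => ?_
    · cases i using Fin.cases
      · simp at h
      · rfl
    · rwa [hb, show i = 0 by simpa using h]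

theorem kp_pomega {ι : Type} [Fintype ι] [DecidableEq ι] {Q : QuadraticForm F (ι → F)} (hQ : ND Q)
    (h2 : (2 : F) ≠ 0) (h6 : 6 ≤ Fintype.card ι) : KP (POmega F ⇑Q) :=
  (kp_orth hQ h2 (by simpa)).of_equiv (pomegaEquiv Q).symm

end

section
variable {K : Type*} [Field K] {m : ℕ}

/-- A product of groups `SL₂` inside the symplectic group. -/
def blk : (Fin m → SL(2, K)) →* symplecticGroup (Fin m) K where
  toFun x := ⟨fromBlocks (diagonal fun i => x i 0 0) (diagonal fun i => x i 0 1)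
    (diagonal fun i => x i 1 0) (diagonal fun i => x i 1 1), SymplecticGroup.mem_iff.2 (by
      have h : ∀ i, x i 0 0 * x i 1 1 - x i 0 1 * x i 1 0 = 1 := fun i =>
        (det_fin_two _).symm.trans (x i).2
      simp only [J, fromBlocks_multiply, fromBlocks_transpose, diagonal_transpose,
        diagonal_mul_diagonal, diagonal_neg, diagonal_add, ← diagonal_one, ← diagonal_zero]
      congr 2 <;> ext i
      · ring
      · linear_combination -h i
      · linear_combination h i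
      · ring)⟩
  map_one' := Subtype.ext (by simp [fromBlocks_one])
  map_mul' x y := Subtype.ext (by
    simp [fromBlocks_multiply, diagonal_mul_diagonal, diagonal_add, mul_apply])

/-- A two-by-two block. -/
def blkE (g : Matrix (Fin m ⊕ Fin m) (Fin m ⊕ Fin m) K) (i k : Fin m) : Matrix (Fin 2) (Fin 2) K :=
  !![g (.inl i) (.inl k), g (.inl i) (.inr k); g (.inr i) (.inl k), g (.inr i) (.inr k)]

theorem blkE_comm {g : Matrix (Fin m ⊕ Fin m) (Fin m ⊕ Fin m) K} {x : Fin m → SL(2, K)} {l : K}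
    (h : g * (blk x).1 = l • ((blk x).1 * g)) (i k : Fin m) :
    blkE g i k * (x k).1 = l • ((x i).1 * blkE g i k) := by
  ext a b
  have := fun u v => congrFun (congrFun h u) v
  have h1 := this (.inl i) (.inl k)
  have h2 := this (.inl i) (.inr k)
  have h3 := this (.inr i) (.inl k)
  have h4 := this (.inr i) (.inr k)
  simp only [blk, MonoidHom.coe_mk, OneHom.coe_mk, mul_apply, Fintype.sum_sum_type, fromBlocks_apply₁₁,
    fromBlocks_apply₁₂, fromBlocks_apply₂₁, fromBlocks_apply₂₂, diagonal_apply, mul_ite, ite_mul, mul_zero,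
    zero_mul, sum_ite_eq, sum_ite_eq', mem_univ, if_true, Matrix.smul_apply] at h1 h2 h3 h4
  fin_cases a <;> fin_cases b <;> simpa [blkE, mul_apply]

theorem exists_q8 [Finite K] : ∃ (a b : K) (j y : SL(2, K)), a ^ 2 + b ^ 2 = -1 ∧ j.1 = !![0, 1; -1, 0] ∧
    y.1 = !![a, b; b, -a] ∧ j * j = -1 ∧ y * j * y⁻¹ = j⁻¹ ∧ IsPGroup 2 ↥(zpowers j ⊔ zpowers y) := by
  have := Fact.mk Nat.prime_two
  obtain ⟨a, b, hab⟩ : ∃ a b : K, a ^ 2 + b ^ 2 = -1 := by
    obtain ⟨p, hp⟩ := CharP.exists K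
    have := Fintype.ofFinite K
    have := NeZero.mk (CharP.char_ne_zero_of_finite K p)
    obtain ⟨a, b, h⟩ := CharP.sq_add_sq K p (-1)
    exact ⟨a, b, by simpa using h⟩
  obtain ⟨j, ej⟩ : ∃ j : SL(2, K), j.1 = !![0, 1; -1, 0] := ⟨⟨_, by simp⟩, rfl⟩
  obtain ⟨y, ey⟩ : ∃ y : SL(2, K), y.1 = !![a, b; b, -a] :=
    ⟨⟨_, by simp [det_fin_two]; linear_combination -hab⟩, rfl⟩
  have jj : j * j = -1 := by ext u v; fin_cases u <;> fin_cases v <;> simp [ej]
  have yy : y * y = -1 := by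
    ext u v; fin_cases u <;> fin_cases v <;> simp [ey] <;> first | ring1 | linear_combination hab
  have yj : y * j * y⁻¹ = j⁻¹ := by
    rw [mul_inv_eq_iff_eq_mul]
    ext u v; fin_cases u <;> fin_cases v <;> simp [ey, ej, Matrix.SpecialLinearGroup.coe_inv]
  have p4 : ∀ x : SL(2, K), x * x = -1 → IsPGroup 2 (zpowers x) := fun x hx =>
    IsPGroup.of_card_dvd_pow (n := 2) (by
      rw [Nat.card_zpowers]
      exact orderOf_dvd_of_pow_eq_one (by rw [pow_two 2, pow_mul, pow_two x, hx]; simp))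
  exact ⟨a, b, j, y, hab, ej, ey, jj, yj, BG.pgroup_sup (p4 j jj) (p4 y yy) (zpowers_le.2 (by
    rw [← Transfer.conj_eq_self_iff, Transfer.conj_zpowers, yj, zpowers_inv]))⟩

theorem sqP_sp {j : SL(2, K)} (jj : j * j = -1) {g : symplecticGroup (Fin m) K} {d : Fin m → K}
    (gd : g.1 = diagonal (Sum.elim d d)) : SqP g := by
  classical
  have d2 : ∀ i, d i * d i = 1 := fun i => by
    have := congrFun (congrFun (SymplecticGroup.mem_iff.1 g.2) (.inr i)) (.inl i)
    simpa [gd, J] using this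
  have : g = blk (fun i => if d i = 1 then 1 else j) * blk (fun i => if d i = 1 then 1 else j) := by
    rw [← map_mul]
    refine Subtype.ext (gd.trans ?_)
    have : ((fun i => if d i = 1 then 1 else j) * fun i => if d i = 1 then 1 else j) =
        fun i => if d i = 1 then 1 else -1 := funext fun i => by
      rw [Pi.mul_apply]; split_ifs <;> simp [jj]
    rw [this, ← fromBlocks_diagonal]
    simp only [blk, MonoidHom.coe_mk, OneHom.coe_mk]
    have h : ∀ i u v, (if d i = 1 then 1 else -1 : SL(2, K)) u v = d i * (1 : Matrix _ _ K) u v :=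
      fun i u v => by
        split_ifs with c
        · simp [c]
        · simp [(mul_self_eq_one_iff.1 (d2 i)).resolve_left c]
    simp [h]
  exact this ▸ SqP.sq _

theorem kp_psp [Finite K] (h2 : (2 : K) ≠ 0) (hm : 2 ≤ m) : KP (PSp m K) := by
  obtain ⟨a, b, j, y, hab, ej, ey, jj, -, hQ⟩ := exists_q8 (K := K)
  have hP : IsPGroup 2 (Subgroup.pi Set.univ fun _ : Fin m => zpowers j ⊔ zpowers y) := fun x => by
    choose k hk using fun i => hQ ⟨x.1 i, x.2 i trivial⟩
    refine ⟨univ.sup k, Subtype.ext (funext fun i => ?_)⟩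
    obtain ⟨c, hc⟩ := pow_dvd_pow 2 (le_sup (f := k) (mem_univ i))
    have : x.1 i ^ 2 ^ k i = 1 := congrArg Subtype.val (hk i)
    simp [hc, pow_mul, this]
  refine KP.of_surj _ (QuotientGroup.mk'_surjective _) (hP.map blk) fun g _ hg => ⟨g, rfl, ?_⟩
  have key : ∀ i, ∀ x ∈ zpowers j ⊔ zpowers y, ∃ l : K, l * l = 1 ∧ ∀ k k', blkE g.1 k k' *
      ((Pi.mulSingle i x : Fin m → SL(2, K)) k').1 =
        l • (((Pi.mulSingle i x : Fin m → SL(2, K)) k).1 * blkE g.1 k k') := fun i x hx => by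
    obtain ⟨l, h0, hl⟩ := comm_of_mk' (ρ := (symplecticGroup (Fin m) K).subtype) (p := fun l => l * l = 1)
      (fun g hg => by
        rcases (Symp.mem_center_sp_iff g).1 hg with rfl | rfl
        exacts [⟨1, by simp⟩, ⟨-1, by simp⟩]) (hg _ ⟨Pi.mulSingle i x, fun k _ => by
      rcases eq_or_ne k i with rfl | c <;> simp [*], rfl⟩)
    exact ⟨l, h0, blkE_comm hl⟩
  have hj := mem_sup_left (T := zpowers y) (mem_zpowers j)
  have off : ∀ i k, i ≠ k → blkE g.1 i k = 0 := fun i k h => by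
    obtain ⟨l, h0, hl⟩ := key i j hj
    have e := hl i k
    rw [Pi.mulSingle_eq_same, Pi.mulSingle_eq_of_ne h.symm, Matrix.SpecialLinearGroup.coe_one, mul_one] at e
    have e' := e
    rw [e, mul_smul_comm, smul_smul, h0, ← mul_assoc, ← Matrix.SpecialLinearGroup.coe_mul, jj, ← e] at e'
    refine (smul_eq_zero.1 (show (2 : K) • blkE g.1 i k = 0 from ?_)).resolve_left h2
    rw [two_smul]
    simpa [add_eq_zero_iff_eq_neg] using e'
  have cm : ∀ i, ∀ x ∈ zpowers j ⊔ zpowers y, blkE g.1 i i * x.1 = x.1 * blkE g.1 i i := fun i x hx => by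
    obtain ⟨l, -, hl⟩ := key i x hx
    have : Nontrivial (Fin m) := Fin.nontrivial_iff_two_le.2 hm
    obtain ⟨k, hk⟩ := exists_ne i
    have e := hl k k
    have e' := hl i i
    rw [Pi.mulSingle_eq_of_ne hk, Matrix.SpecialLinearGroup.coe_one, mul_one, one_mul] at e
    rw [Pi.mulSingle_eq_same] at e'
    by_cases c : l = 1
    · rwa [c, one_smul] at e'
    have z : ∀ k', blkE g.1 k k' = 0 := fun k' => by
      rcases eq_or_ne k k' with rfl | c'
      · exact (smul_eq_zero.1 (show (1 - l) • blkE g.1 k k = 0 by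
          rw [sub_smul, one_smul, ← e, sub_self])).resolve_left (sub_ne_zero.2 (Ne.symm c))
      · exact off _ _ c'
    refine absurd (det_eq_zero_of_row_eq_zero (.inl k) ?_) (det_ne (ρ := (symplecticGroup (Fin m) K).subtype) g)
    rintro (u | u)
    exacts [congrFun (congrFun (z u) 0) 0, congrFun (congrFun (z u) 0) 1]
  have sc : ∀ i, blkE g.1 i i = g.1 (.inl i) (.inl i) • (1 : Matrix (Fin 2) (Fin 2) K) := fun i => by
    have e1 := cm i j hj
    have e2 := cm i y (mem_sup_right (mem_zpowers y))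
    have f1 := congrFun (congrFun e1 0) 0
    have f2 := congrFun (congrFun e1 0) 1
    have f3 := congrFun (congrFun e2 0) 0
    have f4 := congrFun (congrFun e2 0) 1
    simp [blkE, ej, ey] at f1 f2 f3 f4
    have : g.1 (.inl i) (.inr i) = 0 := mul_left_cancel₀ h2 (by
      linear_combination (2 * g.1 (.inl i) (.inr i)) * hab - b * f3 + a * f4 - a * b * f2 + b * b * f1)
    ext u v; fin_cases u <;> fin_cases v <;> simp [blkE, ← f1, f2, this]
  have ent : ∀ i k, blkE g.1 i k = if i = k then g.1 (.inl i) (.inl i) • (1 : Matrix (Fin 2) (Fin 2) K)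
      else 0 := fun i k => by
    split_ifs with c
    exacts [c ▸ sc i, off i k c]
  have gd : g.1 = diagonal (Sum.elim (fun i => g.1 (.inl i) (.inl i)) fun i => g.1 (.inl i) (.inl i)) := by
    ext (u | u) (v | v)
    · have := congrFun (congrFun (ent u v) 0) 0
      by_cases c : u = v <;> simp_all [blkE]
    · have := congrFun (congrFun (ent u v) 0) 1
      by_cases c : u = v <;> simp_all [blkE]
    · have := congrFun (congrFun (ent u v) 1) 0
      by_cases c : u = v <;> simp_all [blkE]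
    · have := congrFun (congrFun (ent u v) 1) 1
      by_cases c : u = v <;> simp_all [blkE]
  exact sqP_sp jj gd

end

end Cfsg.Lib.TwoF
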