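import Cfsg.Agent.Lib.TwoF.Desc
import Cfsg.Agent.Lib.TwoF.Orth

/-!
Two-central involutions of an adjoint Chevalley group with a frame of orthogonal roots.
-/

namespace Cfsg.Lib.TwoF

open Finset Cfsg.Lib.Chev Cfsg.Lib.Chev.RootSys Cfsg.Lib.Chev.ChevSys Cfsg.Lib.Chev.PreSys
  Cfsg.Lib.BG Cfsg.Lib.Root Cfsg.Lib.Transfer
open Subgroup (zpowers mem_zpowers)
open scoped Cfsg.Lib.Transfer MatrixGroups

variable {n : ℕ} {Φ : Type} {R : RootSys (Fin n) Φ} {F : Type*} [Field F] {G : Type*} [Group G]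
  {C : ChevSys R F G} {T : ℕ}

theorem mem_norm_zpowers {g v : G} (h : g * v * g⁻¹ = v ∨ g * v * g⁻¹ = v⁻¹) : g ∈ 𝐍(zpowers v) := by
  rw [← conj_eq_self_iff, conj_zpowers]
  rcases h with h | h <;> rw [h]
  exact Subgroup.zpowers_inv

theorem pg_zpowers {v : G} (h : v * v * (v * v) = 1) : IsPGroup 2 (zpowers v) :=
  IsPGroup.of_card_dvd_pow (n := 2) (by
    rw [Nat.card_zpowers]
    exact orderOf_dvd_of_pow_eq_one (by rw [pow_two 2, pow_mul, pow_two v, pow_two, h]))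

theorem exists_inverting [Finite F] (hM : C.HMul) (r : Φ) : ∃ y ∈ C.XS {r, R.neg r},
    IsPGroup 2 (zpowers y) ∧ y * C.n r 1 * y⁻¹ = (C.n r 1)⁻¹ := by
  obtain ⟨φ, h1, h2⟩ := hM.exists_sl2 r
  obtain ⟨a, b, j, y, -, ej, -, -, yj, hp⟩ := exists_q8 (K := F)
  have e : φ j = C.n r 1 := by
    have : j = xU 1 * xL (-1) * xU 1 := by
      ext u v; fin_cases u <;> fin_cases v <;> simp [ej]
    simp [this, h1, h2, PreSys.n]
  refine ⟨φ y, (upper_sup_lower.ge.trans (sup_le (fun s hs => ?_) fun s hs => ?_) :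
    ⊤ ≤ Subgroup.comap φ (C.XS {r, R.neg r})) (Subgroup.mem_top y), ?_, by rw [← e, ← map_inv, ← map_mul, ← map_mul, yj, map_inv]⟩
  · obtain ⟨t, rfl⟩ := mem_upper_iff.1 hs
    exact Subgroup.mem_comap.2 (h1 t ▸ C.x_mem (by simp) t)
  · obtain ⟨t, rfl⟩ := mem_lower_iff.1 hs
    exact Subgroup.mem_comap.2 (h2 t ▸ C.x_mem (by simp) t)
  · exact MonoidHom.map_zpowers φ y ▸ (hp.to_le le_sup_right).map φ

theorem eq_or_neg_of_refl {r s : Φ} (h : R.refl s = R.refl r) : s = r ∨ s = R.neg r := by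
  have := R.α_refl s r
  rw [h, refl_self, R.α_neg] at this
  refine eq_or_neg_of_smul (i := 2) (j := R.pair s r) two_ne_zero ?_
  rw [two_smul, ← sub_eq_zero, add_sub_assoc, ← this, add_neg_cancel]

variable [Fintype Φ] (hF : C.Faithful) (hl : ∀ r, R.ln r = 1)
  (hodd : ∀ r, ∃ i, Odd (R.pair (R.simple i) r))
include hF hl hodd

theorem h_inj {r : Φ} {t : Fˣ} (h : C.h r t = 1) : t = 1 := by
  have h1 : ∀ s, t ^ R.pair r s = 1 := fun s => Units.ext (by
    simpa using (hF.x_inj (by simpa [h] using (C.acts_h r t).conj s 1)).symm)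
  obtain ⟨i, k, hk⟩ := hodd r
  have h2 := R.ln_mul_pair r (R.simple i)
  rw [hl, hl, one_mul, one_mul, hk] at h2
  have h3 := h1 (R.simple i)
  rwa [h2, zpow_add, zpow_mul, ← pair_self R r, h1, one_zpow, one_mul, zpow_one] at h3

theorem cent_of_fix {g : G} {w : Equiv.Perm Φ} {c : Φ → Fˣ} (h : C.Acts g w c) {r : Φ}
    (hw : w r = r) (e : g * C.n r 1 = C.n r 1 * g) : c r = 1 := by
  have := h.conj_n r 1
  rw [e, mul_inv_cancel_right, hw, mul_one, C.n_eq r (c r), eq_comm, mul_eq_right] at this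
  exact h_inj hF hl hodd this

theorem kp_frame [Finite G] [Finite F] (hA : C.Adjoint) (htop : C.grp = ⊤) (h2 : (2 : F) ≠ 0) {k : ℕ}
    (B : Fin k → Φ) (hB : ∀ a b, a ≠ b → R.pair (B a) (B b) = 0)
    (hsp : ∀ i j, 2 * R.α (R.simple i) j = ∑ b, R.pair (B b) (R.simple i) * R.α (B b) j)
    (hco : ∀ i j, ∑ b, R.pair (R.simple j) (B b) * R.co (B b) i = if i = j then 2 else 0)
    (hD : Desc R.A id true T) : KP G := by
  have := Fact.mk Nat.prime_two
  have hM := hA.hMul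
  have h1 : (-1 : Fˣ) ≠ 1 := fun e => h2 (by
    have : (-1 : F) = 1 := by simpa using congrArg Units.val e
    linear_combination -this)
  let M : Subgroup G := ⨅ b, 𝐍(C.XS {B b, R.neg (B b)}) ⊓ 𝐍(zpowers (C.n (B b) 1))
  have hL : ∀ b, ∀ y ∈ C.XS {B b, R.neg (B b)}, y ∈ 𝐍(zpowers (C.n (B b) 1)) → y ∈ M :=
    fun b y hy hy' => Subgroup.mem_iInf.2 fun a => by
      rcases eq_or_ne b a with rfl | c
      · exact ⟨le_norm _ hy, hy'⟩
      · exact ⟨cent_le_norm _ fun s hs => (comm_XS hl (hB _ _ c) hy hs).symm, mem_norm_zpowers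
          (.inl (by rw [comm_XS hl (hB _ _ c) hy (n_mem_XS _ _), mul_inv_cancel_right]))⟩
  obtain ⟨P, hP, hAP⟩ := Syl.exists_ge (p := 2) (M := M)
    (Q := (powMonoidHom 2 : (Fin n → Fˣ) →* _).ker.map hM.torus)
    (IsPGroup.map (fun c => ⟨1, Subtype.ext c.2⟩) _) (by
      rintro _ ⟨c, hc, rfl⟩
      refine Subgroup.mem_iInf.2 fun b => ⟨C.H_le_normalizer _ (hM.torus_mem_H c), mem_norm_zpowers ?_⟩
      have : R.chr c (B b) ^ 2 = 1 := by rw [← chr_pow, show c ^ 2 = 1 from hc, chr_one]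
      rw [(hM.acts_torus c).conj_n, ← n_neg]
      rcases sq_eq_one_iff.1 (congrArg Units.val this) with e | e
      · simp [show R.chr c (B b) = 1 from Units.ext e]
      · simp [show R.chr c (B b) = -1 from Units.ext e])
  have hν : ∀ b, C.n (B b) 1 ∈ P := fun b => hP.ge_of_norm_p (Subgroup.zpowers_le.2
    (hL b _ (n_mem_XS _ _) (le_norm _ (mem_zpowers _)))) (pg_zpowers (by
      rw [n_sq hM, ← hM, neg_mul_neg, one_mul, h_one]))
    (hP.le.trans ((iInf_le _ b).trans inf_le_right)) (mem_zpowers _)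
  have hk : ∀ b, ∃ y ∈ P, y ∈ C.XS {B b, R.neg (B b)} ∧ y * C.n (B b) 1 * y⁻¹ = (C.n (B b) 1)⁻¹ :=
    fun b => by
      obtain ⟨y, h3, h4, h5⟩ := exists_inverting hM (B b)
      obtain ⟨m, hm, h6⟩ := hP.exists_conj_le h4
        (Subgroup.zpowers_le.2 (hL b y h3 (mem_norm_zpowers (.inr h5))))
      have hm' := Subgroup.mem_iInf.1 hm b
      refine ⟨m * y * m⁻¹, h6 (conj_mem_conj.2 (mem_zpowers y)),
        (Subgroup.mem_normalizer_iff.1 hm'.1 y).1 h3, ?_⟩
      obtain ⟨j, hj⟩ := (Subgroup.mem_normalizer_iff.1 (inv_mem hm'.2) _).1 (mem_zpowers _)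
      have h7 : y * C.n (B b) 1 ^ j * y⁻¹ = (C.n (B b) 1 ^ j)⁻¹ := by
        rw [← conj_zpow, h5, inv_zpow]
      simp only at hj
      rw [hj] at h7
      calc _ = m * (y * (m⁻¹ * C.n (B b) 1 * m⁻¹⁻¹) * y⁻¹) * m⁻¹ := by group
        _ = _ := by rw [h7]; group
  refine ⟨P, hP.pgroup, fun e _ he => ?_⟩
  obtain ⟨u, hu, m, w, hm, -, v, hv, e1⟩ := hF.exists_of_comm hM (A := {c | c ^ 2 = 1}) (htop.ge (Subgroup.mem_top e))
    fun c hc => by rw [he _ (hAP ⟨c, hc, rfl⟩), mul_inv_cancel_right]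
  have h3 : ∀ (p : Φ → Prop), ∀ u ∈ C.XS {r | p r ∧ ∀ c ∈ {c : Fin n → Fˣ | c ^ 2 = 1}, R.chr c r = 1},
      u = 1 := fun p u hu => Subgroup.mem_bot.1 ((XS_le.2 fun r hr => by
    obtain ⟨i, hi⟩ := hodd r
    have := hr.2 (Pi.mulSingle i (-1)) (by rw [Set.mem_ofPred, ← Pi.mulSingle_pow]; simp)
    rw [chr_mulSingle, hi.neg_one_zpow] at this
    exact absurd this h1) hu)
  rw [h3 _ u hu, h3 _ v hv, one_mul, mul_one] at e1
  subst e1
  obtain ⟨χ, hχ⟩ := hm.exists_acts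
  have h4 : ∀ b, w (B b) = B b := fun b => by
    have h5 := (hm.mul (C.nw_n (B b) 1)).mul hm.inv
    rw [← he _ (hν b), mul_inv_cancel_right, hχ.aut.conj_refl] at h5
    refine (eq_or_neg_of_refl (hF.nw_unique h5 (C.nw_n _ _))).resolve_right fun c => h1 ?_
    have h6 := (C.acts_n_one (B b)).mul hχ
    have h7 : (R.refl (B b) * w) (B b) = B b := by rw [Equiv.Perm.mul_apply, c, refl_neg_self]
    have h8 := cent_of_fix hF hl hodd h6 h7 (by rw [mul_assoc, ← he _ (hν b)])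
    have h9 := h6.neg (B b)
    obtain ⟨y, y1, y2, y3⟩ := hk b
    have h10 := Subgroup.mem_centralizer_singleton_iff.1 ((XS_le.2 fun r hr t => ?_ :
      _ ≤ Subgroup.centralizer {C.n (B b) 1 * e}) y2)
    · rw [← mul_assoc, mul_assoc _ e, ← he _ y1, ← mul_assoc, mul_left_inj] at h10
      rw [h10, mul_inv_cancel_right, eq_inv_iff_mul_eq_one, n_sq hM] at y3
      exact h_inj hF hl hodd y3
    rw [Subgroup.mem_centralizer_singleton_iff, h6.conj']
    rcases hr with rfl | rfl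
    · rw [h7, h8, Units.val_one, one_mul]
    · rw [h8, one_mul] at h9
      rw [h6.aut.neg, h7, h9, Units.val_one, one_mul]
  obtain rfl : w = 1 := hχ.aut.eq_one_of_simple fun i => R.α_inj (by
    obtain ⟨L, h5, -⟩ := hχ.aut
    have h6 : (2 : ℤ) • R.α (R.simple i) = ∑ b, R.pair (B b) (R.simple i) • R.α (B b) :=
      funext fun j => by simpa [Finset.sum_apply] using hsp i j
    refine smul_right_injective _ (two_ne_zero (α := ℤ)) ?_
    simp only [h5, ← map_zsmul, h6, map_sum]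
    exact sum_congr rfl fun b _ => by rw [map_zsmul, ← h5, h4])
  obtain ⟨c, rfl⟩ := hM.exists_torus hm.mem_H
  have h5 : ∀ b, R.chr c (B b) = 1 := fun b =>
    cent_of_fix hF hl hodd (hM.acts_torus c) rfl (he _ (hν b)).symm
  obtain ⟨a, ha, rfl⟩ := exists_sgv (c := c) (funext fun i => by
    have : ∏ b, R.chr c (B b) ^ R.co (B b) i = c i * c i := by
      simp only [RootSys.chr, ← prod_zpow, ← zpow_mul]
      rw [prod_comm]
      simp only [prod_zpow_eq, hco]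
      rw [prod_eq_single i (fun j _ hj => by simp [hj.symm]) (by simp)]
      simp [sq]
    simpa [h5] using this.symm)
  obtain ⟨w, hw, b', hb', e'⟩ := hD.exists (F := F) ha
  obtain ⟨g, hg⟩ := C.exists_nw_of_mem_W hw
  have h6 : hM.torus (sgv n F a) = g⁻¹ * hM.torus (sgv n F b') * g⁻¹⁻¹ := by
    rw [← e', ← hM.nw_conj_torus hg]; group
  rw [h6]
  refine SqP.conj ?_ _
  rcases hb'.sq (fun _ => hl) hM (σ := MonoidHom.id G) (fun _ => rfl) with c | ⟨v, -, h7⟩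
  · rw [show hM.torus _ = 1 from (hA.ker_torus hF).ge c]
    exact SqP.one
  · exact h7 ▸ SqP.sq v

end Cfsg.Lib.TwoF
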