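import Cfsg.Agent.Lib.TwoF.Base
import Cfsg.Agent.S3285
import Cfsg.Agent.S1157

/-!
The alternating groups, `L₂(q)` and the Ree groups.
-/

namespace Cfsg.Lib.TwoF

open Subgroup Cfsg.Lib.BG Cfsg.Lib.GW Cfsg.Lib.JR Cfsg.Lib.Transfer Cfsg.Lib.W2
open scoped Cfsg.Lib.Transfer MatrixGroups

variable {G : Type*} [Group G] [Finite G] {t : G} {F : Subgroup G}

theorem kp_alt {n : ℕ} (hn : 6 ≤ n) : KP (alternatingGroup (Fin n)) :=
  ⟨⊥, IsPGroup.of_bot, fun e he _ N hN => by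
    have xx : ∀ a, e.1 (e.1 a) = a := fun a => by
      rw [← Equiv.Perm.mul_apply, show e.1 * e.1 = 1 from congrArg Subtype.val he]; rfl
    exact (mem_map_iff_mem (alternatingGroup (Fin n)).subtype_injective).1
      (Agent.S3285.subinv_mem (N := N.map (alternatingGroup (Fin n)).subtype) (by simpa) xx
        (fun y hy hc => ⟨_, hN ⟨y, hy⟩ (Subtype.ext hc.eq.symm), rfl⟩) _ _ le_rfl xx
        (fun _ => .inr rfl) e.2)⟩

theorem Hyp.ab2 (h : Hyp t F) (hF : Ab2 F) : Ab2 G := by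
  have := Fact.mk Nat.prime_two
  obtain ⟨S, hS, hle⟩ := Syl.exists_ge (Inv.isPGroup_zpowers_of_mul_self h.tt) h.dp.left_le
  have hS' : Syl 2 S ⊤ := hS.trans_idx le_top (PiNat.p'_iff.2 (by rw [relIndex_top_right]; exact h.idx))
  obtain ⟨S, rfl⟩ := Syl.top_iff_sylow.1 hS'
  have := h.dp.restrict hle hS.le
  refine ab2_of_sylow S (this.abelian inferInstance (abelian_iff.2 (le_cent_iff.2 fun a ha b hb => ?_)))
  exact congrArg Subtype.val (hF ((S : Subgroup G).subgroupOf F) (S.isPGroup'.comap_subtype)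
    ⟨a, ha.1⟩ ha.2 ⟨b, hb.1⟩ hb.2)

omit [Finite G] in
theorem Hyp.card (h : Hyp t F) : Nat.card 𝐂[t] = 2 * Nat.card F := by
  rw [← h.dp.card, Nat.card_zpowers, h.ord]

theorem Hyp.l2 (h : Hyp t F) {K : Type*} [Field K] [Finite K] (h3 : 3 ≤ Nat.card K)
    (e : F ≃* PSL(2, K)) :
    (∃ f, 1 ≤ f ∧ Nat.card K = 3 ^ (2 * f + 1)) ∨ Nat.card K = 4 ∨ Nat.card K = 5 := by
  obtain ⟨M, _, _, _, s, E, hE, ⟨i⟩⟩ := Hyp.exists_simple _ rfl h
  have j := i.symm.trans e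
  rcases ab2_or_kp (F := PSL(2, K)) fun _ _ => PSL2.isConj_psl_of_orderOf_two with c | c
  · exact (janko_ree (hE.ab2 (c.of_equiv j.symm)) h3 hE.ord (by
      rw [hE.card, Nat.card_congr j.toEquiv])).imp (fun ⟨f, h1, h2, _⟩ => ⟨f, h1, h2⟩) And.left
  · exact absurd (c.of_equiv j.symm) hE.not_kp

theorem Hyp.not_eight (h : Hyp t F) (hA : Ab2 F) (h24 : 24 ∣ Nat.card F) : False := by
  obtain ⟨M, _, _, _, s, E, hE, ⟨i⟩⟩ := Hyp.exists_simple _ rfl h
  have h1 : 48 ∣ Nat.card 𝐂[s] := by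
    rw [hE.card, ← Nat.card_congr i.toEquiv]
    exact Nat.mul_dvd_mul_left 2 h24
  obtain ⟨p, q, m, k, e, r⟩ := exists_rt (fun c => hE.nab inferInstance) (hE.ab2 (hA.of_equiv i)) hE.ord
    (Nat.dvd_trans (by decide) h1) (Nat.dvd_trans (by decide) h1)
  have L := r.l2 hE.ord
  have hq : Odd q := by rcases L.sgn with c | c <;> exact Nat.odd_iff.2 (by omega)
  rw [(r.ri _ hE.ord).card, L.card, show 2 * e * (4 * m * k * q) = 8 * (e * m * k * q) by ring] at h1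
  exact (((r.eo.mul r.mo).mul r.ko).mul hq).not_two_dvd_nat
    (Nat.dvd_of_mul_dvd_mul_left (k := 8) (by decide) (Nat.dvd_trans (by decide) h1))

theorem Hyp.not_ree (h : Hyp t F) : ¬ Lie.IsoRee F := by
  rintro ⟨K, _, _, m, hm, hK, ⟨e⟩⟩
  have := Finite.of_equiv _ e.toEquiv
  obtain ⟨S⟩ : Nonempty (Sylow 2 (Lie.twistedG2 K (3 ^ m))) := inferInstance
  obtain ⟨h1, h2⟩ := Agent.S1157.result hm hK S
  refine h.not_eight ((ab2_of_sylow S (abelian_iff.2 h1.ge)).of_equiv e.symm) ?_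
  rw [Nat.card_congr e.toEquiv]
  exact Nat.dvd_trans (by decide) (h2 ▸ card_subgroup_dvd_card _)

end Cfsg.Lib.TwoF
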